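import Groth.Agent.S2305
import Groth.Agent.Divis.IdealComap
import Mathlib.AlgebraicGeometry.Morphisms.FinitePresentation
import Mathlib.AlgebraicGeometry.Morphisms.ClosedImmersion
import Mathlib.RingTheory.FiniteType
import Mathlib.RingTheory.Noetherian.Nilpotent
import Mathlib.AlgebraicGeometry.Noetherian

set_option autoImplicit false
universe u

/-!
Finite type along finitely generated nilpotent thickenings of the source.
-/

namespace K262.NilFT

/-- If `J` is a finitely generated nilpotent ideal of `B` and `B ⧸ J` is of finite type over `A`, so is `B`. -/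
theorem finiteType_of_quotient_fg {A B : Type u} [CommRing A] [CommRing B] [Algebra A B] (J : Ideal B)
    (hJ : IsNilpotent J) (hfg : J.FG) (h : Algebra.FiniteType A (B ⧸ J)) :
    Algebra.FiniteType A B := by
  classical
  obtain ⟨s, hs⟩ := hfg
  set B' := Algebra.adjoin A (s : Set B) with hB'
  have hfB : Algebra.FiniteType A B' := (Subalgebra.fg_iff_finiteType _).mp ⟨s, rfl⟩
  let ι : s → B' := fun x => ⟨x.1, Algebra.subset_adjoin x.2⟩
  let I : Ideal B' := Ideal.span (Set.range ι)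
  have hmap : I.map (algebraMap B' B) = J := by
    rw [Ideal.map_span, ← hs]
    congr 1
    ext x
    simp only [Set.mem_image, Set.mem_range]
    constructor
    · rintro ⟨_, ⟨y, rfl⟩, rfl⟩; exact y.2
    · intro hx; exact ⟨_, ⟨⟨x, hx⟩, rfl⟩, rfl⟩
  have hI : IsNilpotent I := by
    obtain ⟨n, hn⟩ := hJ
    refine ⟨n, ?_⟩
    have h1 : (I ^ n).map (algebraMap B' B) = ⊥ := by rw [Ideal.map_pow, hmap, hn]; rfl
    rw [Ideal.zero_eq_bot, eq_bot_iff]
    intro x hx
    have h2 : algebraMap B' B x ∈ (I ^ n).map (algebraMap B' B) := Ideal.mem_map_of_mem _ hx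
    rw [h1, Ideal.mem_bot] at h2
    exact Subtype.ext h2
  have h3 : Algebra.FiniteType B' (B ⧸ I.map (algebraMap B' B)) := by
    rw [hmap]
    exact Algebra.FiniteType.of_restrictScalars_finiteType A B' (B ⧸ J)
  have h4 := Groth.Agent.S2305.finiteType_of_quotient I hI h3
  exact Algebra.FiniteType.trans hfB h4

theorem ringHom_finiteType_of_surjective {A B C : Type u} [CommRing A] [CommRing B] [CommRing C]
    (f : A →+* B) (g : B →+* C) (hg : Function.Surjective g) (hn : IsNilpotent (RingHom.ker g))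
    (hfg : (RingHom.ker g).FG) (h : (g.comp f).FiniteType) : f.FiniteType := by
  algebraize [f]
  refine finiteType_of_quotient_fg (A := A) (B := B) (RingHom.ker g) hn hfg ?_
  have h' := h
  algebraize [g, g.comp f]
  exact Algebra.FiniteType.equiv h
    (AlgEquiv.ofBijective (Ideal.Quotient.liftₐ (RingHom.ker g) (IsScalarTower.toAlgHom A B C)
      (fun x hx => hx)) ⟨by
        rw [injective_iff_map_eq_zero]
        intro x hx
        obtain ⟨y, rfl⟩ := Ideal.Quotient.mk_surjective x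
        rw [Ideal.Quotient.eq_zero_iff_mem]
        exact hx, by
        intro c
        obtain ⟨b, rfl⟩ := hg c
        exact ⟨Ideal.Quotient.mk _ b, rfl⟩⟩).symm

open AlgebraicGeometry CategoryTheory

theorem locallyOfFiniteType_of_comp_thickening' {X Y Y₀ : Scheme.{u}} (F : Y ⟶ X) (i : Y₀ ⟶ Y)
    [IsClosedImmersion i]
    (H : ∀ (U : X.affineOpens) (V : Y.affineOpens), V.1 ≤ F ⁻¹ᵁ U.1 →
      IsNilpotent (i.ker.ideal V) ∧ (i.ker.ideal V).FG)
    (h : LocallyOfFiniteType (i ≫ F)) : LocallyOfFiniteType F := by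
  rw [HasRingHomProperty.iff_appLE (P := @LocallyOfFiniteType)] at h ⊢
  intro U V e
  have e' : i ⁻¹ᵁ V.1 ≤ (i ≫ F) ⁻¹ᵁ U.1 := by
    rw [Scheme.Hom.comp_preimage]
    exact i.preimage_mono e
  have h1 := h U ⟨i ⁻¹ᵁ V.1, V.2.preimage i⟩ e'
  have h2 : (i ≫ F).appLE U.1 (i ⁻¹ᵁ V.1) e' = F.appLE U.1 V.1 e ≫ i.app V.1 := by
    simp [Scheme.Hom.appLE, Scheme.Hom.comp_app]
  refine ringHom_finiteType_of_surjective (F.appLE U.1 V.1 e).hom (i.app V.1).hom
    (Scheme.Hom.app_surjective i V.1 V.2) ?_ ?_ ?_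
  · rw [← Scheme.Hom.ker_apply]; exact (H U V e).1
  · rw [← Scheme.Hom.ker_apply]; exact (H U V e).2
  · have := congrArg CommRingCat.Hom.hom h2
    rw [CommRingCat.hom_comp] at this
    rw [← this]
    exact h1

theorem locallyOfFiniteType_of_comp_thickening {X Y Y₀ : Scheme.{u}} (F : Y ⟶ X) (i : Y₀ ⟶ Y)
    [IsClosedImmersion i]
    (hinil : ∀ U : Y.affineOpens, IsNilpotent (i.ker.ideal U))
    (hfg : ∀ U : Y.affineOpens, (i.ker.ideal U).FG)
    (h : LocallyOfFiniteType (i ≫ F)) : LocallyOfFiniteType F :=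
  locallyOfFiniteType_of_comp_thickening' F i (fun _ V _ => ⟨hinil V, hfg V⟩) h

open Limits in
theorem ker_eq_comap_of_isPullback {X X₀ Y Y₀ : Scheme.{u}} {F : Y ⟶ X} {F₀ : Y₀ ⟶ X₀} {i : Y₀ ⟶ Y}
    {j : X₀ ⟶ X} [IsClosedImmersion j] (hc : IsPullback F₀ i j F) : i.ker = j.ker.comap F := by
  rw [← Scheme.IdealSheafData.ker_fst_of_isClosedImmersion, ← hc.flip.isoPullback_hom_fst,
    Scheme.Hom.ker_comp_of_isIso]

end K262.NilFT
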