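import Groth.Agent.S2299
import Mathlib.AlgebraicGeometry.Morphisms.SchemeTheoreticallyDominant
import Mathlib.AlgebraicGeometry.Sites.Fpqc
import Mathlib.AlgebraicGeometry.FunctionField

set_option autoImplicit false
universe u

/-!
The generic point of an integral scheme: the inclusion of `Spec` of its local ring is quasi-compact and
scheme-theoretically dominant, and this is inherited by flat schemes over it.
-/

open CategoryTheory CategoryTheory.Limits AlgebraicGeometry

namespace K262.GenExt

variable (T : Scheme.{u}) [IsIntegral T]

theorem quasiCompact_fromSpecStalk : QuasiCompact (T.fromSpecStalk (genericPoint T)) := by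
  have : Finite (Spec (T.presheaf.stalk (genericPoint T))) := by
    have h : IsField (T.presheaf.stalk (genericPoint T)) := Field.toIsField (T.functionField)
    let := h.toField
    exact inferInstanceAs (Finite (PrimeSpectrum (T.presheaf.stalk (genericPoint T))))
  exact ⟨fun U _ _ => Set.Finite.isCompact (Set.toFinite _)⟩

theorem isDominant_fromSpecStalk : IsDominant (T.fromSpecStalk (genericPoint T)) := by
  constructor
  have h : genericPoint T ∈ Set.range (T.fromSpecStalk (genericPoint T)) := by
    rw [Scheme.range_fromSpecStalk]
    exact specializes_rfl
  rw [DenseRange, dense_iff_closure_eq, ← Set.univ_subset_iff, ← genericPoint_closure T]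
  exact closure_mono (Set.singleton_subset_iff.mpr h)

theorem schDom_fromSpecStalk : IsSchemeTheoreticallyDominant (T.fromSpecStalk (genericPoint T)) := by
  have := isDominant_fromSpecStalk T
  exact IsSchemeTheoreticallyDominant.of_isDominant _

end K262.GenExt
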