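import Groth.Agent.SDiv.K471.StalkPrimes
import Groth.Agent.PerfB.PushFLF
import Groth.Agent.CycB.PushStalk
import Groth.Agent.S0558
import Groth.Agent.S2516
import Groth.Agent.Fdesc.StructMod

set_option autoImplicit false
universe u

/-!
Flatness over a regular scheme of dimension at most one through associated points.
-/

open CategoryTheory AlgebraicGeometry

namespace K262.FinFlatAss

open K471.StalkPrimes

theorem flat_stalkMap {C C' : Scheme.{u}} (f : C ⟶ C') [IsLocallyNoetherian C] (x : C)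
    (hreg : IsRegularLocalRing (C'.presheaf.stalk (f x)))
    (hdim : ringKrullDim (C'.presheaf.stalk (f x)) ≤ 1)
    (hass : ∀ x' : C, x' ⤳ x → Curv2.IsAssPoint (Coh.structureModule C) x' →
      ringKrullDim (C'.presheaf.stalk (f x')) = 0) :
    (f.stalkMap x).hom.Flat := by
  have hdom : IsDomain (C'.presheaf.stalk (f x)) := Groth.Agent.S0558.result _
  have hval : ValuationRing (C'.presheaf.stalk (f x)) := Groth.Agent.S2516.valuationRing_of_regular _ hdim
  have hk1 : Ring.KrullDimLE 1 (C'.presheaf.stalk (f x)) := by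
    rw [Ring.krullDimLE_iff]; exact_mod_cast hdim
  algebraize [(f.stalkMap x).hom]
  change Module.Flat (C'.presheaf.stalk (f x)) (C.presheaf.stalk x)
  rw [Module.Flat.flat_iff_torsion_eq_bot_of_isBezout, eq_bot_iff]
  rintro s ⟨⟨r, hr⟩, hrs⟩
  by_contra hs
  have hs0 : s ≠ 0 := hs
  have hrs' : (f.stalkMap x).hom r * s = 0 := hrs
  have hr0 : r ≠ 0 := nonZeroDivisors.ne_zero hr
  obtain ⟨P, hP, hle⟩ := exists_le_isAssociatedPrime_of_isNoetherianRing (C.presheaf.stalk x) s hs0
  have hmem : (f.stalkMap x).hom r ∈ P := hle (by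
    rw [Submodule.mem_colon_singleton]
    exact hrs')
  let Q : PrimeSpectrum (C.presheaf.stalk x) := ⟨P, hP.isPrime⟩
  obtain ⟨U, hU, hx, -⟩ := exists_isAffineOpen_mem_and_subset (X := C) (x := x) (U := ⊤) trivial
  obtain ⟨y, hy, hyx, hb⟩ := exists_point_of_prime hU hx Q
  have hqc : Coh.IsQCoh (Coh.structureModule C) := Groth.Agent.Fdesc.StructMod.isQCoh_structureModule C
  have hAss : Curv2.IsAssPoint (Coh.structureModule C) y := by
    rw [isAssPoint_iff hU hx hqc hy Q hb,
      ← LinearEquiv.AssociatedPrimes.eq (Groth.Agent.CycB.PushStalk.unitStalk C x)]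
    exact hP
  have h0 := hass y hyx hAss
  -- `y` is the image of `Q`
  have hyQ : C.fromSpecStalk x Q = y := by
    rw [← hU.fromSpecStalk_eq_fromSpecStalk hx]
    have : hU.fromSpec (below hx Q) = y := by rw [hb, hU.fromSpec_primeIdealOf]
    exact this
  have hQ : PrimeSpectrum.comap (f.stalkMap x).hom Q = IsLocalRing.closedPoint _ := by
    apply PrimeSpectrum.ext
    have hmax := (Ring.krullDimLE_one_iff_of_noZeroDivisors.mp hk1)
      (PrimeSpectrum.comap (f.stalkMap x).hom Q).asIdeal (by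
        intro h
        apply hr0
        have : r ∈ (PrimeSpectrum.comap (f.stalkMap x).hom Q).asIdeal := hmem
        rwa [h, Ideal.mem_bot] at this) (PrimeSpectrum.isPrime _)
    exact IsLocalRing.eq_maximalIdeal hmax
  have hfy : f y = f x := by
    have h1 : (C.fromSpecStalk x ≫ f) Q = f y := congrArg f hyQ
    have h2 : (Spec.map (f.stalkMap x) ≫ C'.fromSpecStalk (f x)) Q = f y := by
      rw [Scheme.SpecMap_stalkMap_fromSpecStalk]; exact h1
    have h3 : (Spec.map (f.stalkMap x) ≫ C'.fromSpecStalk (f x)) Q =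
        C'.fromSpecStalk (f x) (IsLocalRing.closedPoint _) := congrArg (C'.fromSpecStalk (f x)) hQ
    rw [← h2, h3, Scheme.fromSpecStalk_closedPoint]
  rw [hfy] at h0
  have hk0 : Ring.KrullDimLE 0 (C'.presheaf.stalk (f x)) := by
    rw [Ring.krullDimLE_iff]; exact_mod_cast h0.le
  have hbot := Ring.krullDimLE_zero_iff.mp hk0 ⊥ Ideal.isPrime_bot
  have hbm : (⊥ : Ideal (C'.presheaf.stalk (f x))) = IsLocalRing.maximalIdeal _ := IsLocalRing.eq_maximalIdeal hbot
  apply hr0
  have hrm : r ∈ (PrimeSpectrum.comap (f.stalkMap x).hom Q).asIdeal := hmem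
  rw [hQ] at hrm
  have hrm' : r ∈ IsLocalRing.maximalIdeal (C'.presheaf.stalk (f x)) := hrm
  rwa [← hbm, Ideal.mem_bot] at hrm'

end K262.FinFlatAss
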