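import Groth.Agent.Flat2G.RelAssVal8
import Groth.Agent.Flat2D.RelDimClosure2
import Groth.Agent.Flat2G.AffPrimes
import Groth.Agent.Flat2G.RelAssSch
import Groth.Agent.Flat2B.FlatCrit
import Groth.Agent.Ega4fib.H174.EquidimCrit
import Groth.Agent.Divis.WeakAss

set_option autoImplicit false
universe u

/-!
Relative transcendence degrees along flat morphisms: if `y ⤳ x` are both maximal points of their fibres, they
have the same relative transcendence degree.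
-/

open CategoryTheory AlgebraicGeometry

namespace K262.FlatDim

open Groth.Agent Groth.Agent.CycB.RelDim

theorem rtd_le {X S : Scheme.{u}} (f : X ⟶ S) [Flat f] [LocallyOfFiniteType f] (y x : X) (hyx : y ⤳ x)
    (hy : ∀ z : X, z ⤳ y → f z = f y → z = y)
    (hx : ∀ z : X, y ⤳ z → z ⤳ x → f z = f x → z = x) : rtd f x ≤ rtd f y := by
  obtain ⟨W, hW, hxW, -⟩ := exists_isAffineOpen_mem_and_subset (X := S) (x := f x) (U := ⊤) trivial
  obtain ⟨U, hU, hxU, hUW⟩ := exists_isAffineOpen_mem_and_subset (X := X) (x := x) (U := f ⁻¹ᵁ W) hxW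
  have e : U ≤ f ⁻¹ᵁ W := hUW
  have hyU : y ∈ U := hyx.mem_open U.isOpen hxU
  have hft := f.finiteType_appLE hW hU e
  have hfl := f.flat_appLE hW hU e
  algebraize [(f.appLE W U e).hom]
  have hux := Flat2G.RelAssSch.primeIdealOf_under f hU hW e x hxU
  have huy := Flat2G.RelAssSch.primeIdealOf_under f hU hW e y hyU
  -- points of `U` with prescribed prime
  have hpt : ∀ (Q : Ideal Γ(X, U)) (hQ : Q.IsPrime), ∃ (z : X) (hzU : z ∈ U),
      (hU.primeIdealOf ⟨z, hzU⟩).asIdeal = Q := fun Q hQ =>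
    ⟨hU.fromSpec ⟨Q, hQ⟩, Flat2G.AffPrimes.fromSpec_mem hU _, by
      rw [Flat2G.AffPrimes.primeIdealOf_fromSpec hU ⟨Q, hQ⟩]⟩
  have hcong : ∀ (w v : X) (hw : w ∈ U) (hv : v ∈ U), w = v →
      (hU.primeIdealOf ⟨w, hw⟩).asIdeal = (hU.primeIdealOf ⟨v, hv⟩).asIdeal := by
    rintro w v hw hv rfl
    rfl
  have hfib : ∀ (z v : X) (hz : z ∈ U) (hv : v ∈ U),
      ((hU.primeIdealOf ⟨v, hv⟩).asIdeal.under Γ(S, W)).map (algebraMap Γ(S, W) Γ(X, U)) ≤
        (hU.primeIdealOf ⟨z, hz⟩).asIdeal → z ⤳ v → f z = f v := by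
    intro z v hz hv h1 h2
    rw [← Flat2G.AffPrimes.primeIdealOf_le_iff hU z v hz hv] at h2
    have hunder : (hU.primeIdealOf ⟨z, hz⟩).asIdeal.comap (f.appLE W U e).hom =
        (hU.primeIdealOf ⟨v, hv⟩).asIdeal.comap (f.appLE W U e).hom :=
      le_antisymm (Ideal.comap_mono h2) (Ideal.map_le_iff_le_comap.mp h1)
    apply Flat2G.AffPrimes.primeIdealOf_injective hW (f z) (f v) (e hz) (e hv)
    rw [← Flat2G.RelAssSch.primeIdealOf_under f hU hW e z hz,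
      ← Flat2G.RelAssSch.primeIdealOf_under f hU hW e v hv]
    exact hunder
  have hmin : ∀ Q : Ideal Γ(X, U), Q.IsPrime → (hU.primeIdealOf ⟨y, hyU⟩).asIdeal ≤ Q →
      ((hU.primeIdealOf ⟨x, hxU⟩).asIdeal.under Γ(S, W)).map (algebraMap Γ(S, W) Γ(X, U)) ≤ Q →
      Q ≤ (hU.primeIdealOf ⟨x, hxU⟩).asIdeal → Q = (hU.primeIdealOf ⟨x, hxU⟩).asIdeal := by
    intro Q hQ hyQ hsQ hQx
    obtain ⟨z, hzU, hz⟩ := hpt Q hQ
    have hzx : z ⤳ x := by
      rw [← Flat2G.AffPrimes.primeIdealOf_le_iff hU z x hzU hxU, hz]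
      exact hQx
    have hyz : y ⤳ z := by
      rw [← Flat2G.AffPrimes.primeIdealOf_le_iff hU y z hyU hzU, hz]
      exact hyQ
    have hfz : f z = f x := hfib z x hzU hxU (by rw [hz]; exact hsQ) hzx
    rw [← hz]
    exact hcong z x hzU hxU (hx z hyz hzx hfz)
  have hminy : (hU.primeIdealOf ⟨y, hyU⟩).asIdeal ∈
      (((hU.primeIdealOf ⟨y, hyU⟩).asIdeal.under Γ(S, W)).map (algebraMap Γ(S, W) Γ(X, U))).minimalPrimes := by
    refine ⟨⟨inferInstance, Ideal.map_comap_le⟩, ?_⟩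
    rintro Q ⟨hQ, hQ1⟩ hQ2
    obtain ⟨z, hzU, hz⟩ := hpt Q hQ
    have hzy : z ⤳ y := by
      rw [← Flat2G.AffPrimes.primeIdealOf_le_iff hU z y hzU hyU, hz]
      exact hQ2
    have hfz : f z = f y := hfib z y hzU hyU (by rw [hz]; exact hQ1) hzy
    rw [← hz]
    exact (hcong z y hzU hyU (hy z hzy hfz)).ge
  have hRA : Flat2G.GenericAss.RA
      (((hU.primeIdealOf ⟨y, hyU⟩).asIdeal.under Γ(S, W)).map (algebraMap Γ(S, W) Γ(X, U)))
      (hU.primeIdealOf ⟨y, hyU⟩).asIdeal Γ(X, U) := by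
    refine ⟨1, ?_, ?_⟩
    · intro b hb
      obtain ⟨s, hs, n, hn⟩ := Divis.WeakAss.exists_mul_pow_mem hminy hb
      refine ⟨n, s, hs, ?_⟩
      exact Submodule.smul_mem_smul hn Submodule.mem_top
    · intro s hs hmem

      apply hs
      have : s ∈ (((hU.primeIdealOf ⟨y, hyU⟩).asIdeal.under Γ(S, W)).map (algebraMap Γ(S, W) Γ(X, U))) := by
        simpa [smul_eq_mul] using hmem
      exact Ideal.map_comap_le this
  obtain ⟨-, h2⟩ := Flat2G.RelAssVal.main_alg (A := Γ(S, W)) (B := Γ(X, U)) (M := Γ(X, U))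
    (hU.primeIdealOf ⟨y, hyU⟩).asIdeal (hU.primeIdealOf ⟨x, hxU⟩).asIdeal
    ((Flat2G.AffPrimes.primeIdealOf_le_iff hU y x hyU hxU).mpr hyx) hmin
    (Flat2B.FlatCrit.flatAt_of_flat _ _) hRA
  have h3 := Flat2G.RelAssVal.trd_le_of_algIndep (A := Γ(S, W)) (B := Γ(X, U))
    (hU.primeIdealOf ⟨y, hyU⟩).asIdeal (hU.primeIdealOf ⟨x, hxU⟩).asIdeal
    (hW.primeIdealOf ⟨f y, e hyU⟩).asIdeal (hW.primeIdealOf ⟨f x, e hxU⟩).asIdeal huy.symm hux.symm h2
  rw [CycB.RelDim.rtd_eq_trd_quotientMap f hW hU e x hxU (e hxU) _ rfl hux.symm.le,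
    CycB.RelDim.rtd_eq_trd_quotientMap f hW hU e y hyU (e hyU) _ rfl huy.symm.le]
  exact h3

/-- Maximal points of fibres of a flat morphism, one specializing to the other, have the same relative
transcendence degree. -/
theorem rtd_eq {X S : Scheme.{u}} (f : X ⟶ S) [Flat f] [LocallyOfFiniteType f] (y x : X) (hyx : y ⤳ x)
    (hy : ∀ z : X, z ⤳ y → f z = f y → z = y)
    (hx : ∀ z : X, z ⤳ x → f z = f x → z = x) : rtd f x = rtd f y :=
  le_antisymm (rtd_le f y x hyx hy (fun z _ => hx z))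
    (Ega4fib.H174.EquidimCrit.rtd_le_of_maximal_fib f hyx (fun z _ => hx z))

end K262.FlatDim
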