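import Groth.Agent.FlatMor.K262.FlatDim
import Mathlib.AlgebraicGeometry.Morphisms.UniversallyOpen

set_option autoImplicit false
universe u

/-!
Dimensions of irreducible components of fibres of flat morphisms of schemes of finite type over a field.
-/

open CategoryTheory AlgebraicGeometry

namespace K262.FlatDim

open Groth.Agent Groth.Agent.CycB.RelDim Groth.Agent.Ega4fib.H174

theorem dim_closure {k : Type u} [Field k] {X : Scheme.{u}} (qX : X ⟶ Spec (CommRingCat.of k))
    [LocallyOfFiniteType qX] (ξ : X) :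
    ∃ n : ℕ, rtd qX ξ = n ∧ topologicalKrullDim (closure {ξ} : Set X) = n := by
  obtain ⟨n, h1, h2⟩ := Flat2D.RelDimClosure.exists_dim_closure_inter qX (isAffineOpen_top _)
    ((Scheme.ΓSpecIso (CommRingCat.of k)).commRingCatIsoToRingEquiv.toMulEquiv.isField
      (Field.toIsField _)) ξ ⊤ trivial
  rw [show (closure {ξ} ∩ ((⊤ : X.Opens) : Set X) : Set X) = closure {ξ} by simp] at h2
  exact ⟨n, h1, h2⟩

theorem dim_closure_fiber {X S : Scheme.{u}} (f : X ⟶ S) [LocallyOfFiniteType f] (s : S) (z : f.fiber s) :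
    ∃ n : ℕ, rtd f (f.fiberι s z) = n ∧ topologicalKrullDim (closure {z} : Set (f.fiber s)) = n := by
  obtain ⟨n, h1, h2⟩ := Flat2D.RelDimClosure.exists_dim_closure_inter_fiber f s z ⊤ trivial
  rw [show (closure {z} ∩ ((⊤ : (f.fiber s).Opens) : Set (f.fiber s)) : Set (f.fiber s)) = closure {z} by simp] at h2
  exact ⟨n, h1, h2⟩

/-- Every point is a specialization of a maximal point. -/
theorem exists_maximal {X : Scheme.{u}} (x : X) : ∃ ξ : X, ξ ⤳ x ∧ ∀ z : X, z ⤳ ξ → z = ξ := by
  obtain ⟨Z, hZ, hxZ⟩ := exists_mem_irreducibleComponents_subset_of_isIrreducible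
    (closure {x}) isIrreducible_singleton.closure
  obtain ⟨ξ, hξ, rfl⟩ := Equidim.mem_irreducibleComponents_iff.mp hZ
  exact ⟨ξ, specializes_iff_mem_closure.mpr (hxZ (subset_closure rfl)), hξ⟩

theorem maximal_image {X S : Scheme.{u}} (f : X ⟶ S) [Flat f] {ξ : X} (hξ : ∀ z : X, z ⤳ ξ → z = ξ) :
    ∀ y : S, y ⤳ f ξ → y = f ξ := by
  intro y hy
  obtain ⟨ξ', h1, h2⟩ := Flat.generalizingMap f hy
  rw [← h2, hξ ξ' h1]

/-- a maximal point of a fibre is maximal in its fibre inside `X` -/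
theorem maximal_fiber {X S : Scheme.{u}} (f : X ⟶ S) (s : S) (z : f.fiber s) (hz : ∀ w : f.fiber s, w ⤳ z → w = z) :
    ∀ w : X, w ⤳ f.fiberι s z → f w = f (f.fiberι s z) → w = f.fiberι s z := by
  intro w hw hfw
  have hs : f (f.fiberι s z) = s := (f.fiberHomeo s z).2
  have hws : f w = s := hfw.trans hs
  let w' : f.fiber s := (f.fiberHomeo s).symm ⟨w, hws⟩
  have hw' : f.fiberι s w' = w := f.fiberι_fiberHomeo_symm s _
  have h1 : w' ⤳ z := by
    rw [← (f.fiberι s).isEmbedding.isInducing.specializes_iff, hw']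
    exact hw
  rw [← hw', hz w' h1]

/-- For a flat morphism, the relative transcendence degree at a maximal point of a fibre is the one at a maximal
point of the source specializing to it. -/
theorem exists_component {X S : Scheme.{u}} (f : X ⟶ S) [Flat f] [LocallyOfFiniteType f] (s : S) (z : f.fiber s)
    (hz : ∀ w : f.fiber s, w ⤳ z → w = z) :
    ∃ ξ : X, ξ ⤳ f.fiberι s z ∧ (∀ w : X, w ⤳ ξ → w = ξ) ∧ rtd f (f.fiberι s z) = rtd f ξ := by
  obtain ⟨ξ, h1, h2⟩ := exists_maximal (f.fiberι s z)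
  exact ⟨ξ, h1, h2, rtd_eq f ξ _ h1 (fun w hw _ => h2 w hw) (maximal_fiber f s z hz)⟩

/-- The irreducible component of the fibre through a maximal point. -/
theorem closure_asFiber_mem {X S : Scheme.{u}} (f : X ⟶ S) {ξ : X} (hξ : ∀ z : X, z ⤳ ξ → z = ξ) :
    closure {f.asFiber ξ} ∈ irreducibleComponents (f.fiber (f ξ) : Type u) := by
  refine Equidim.mem_irreducibleComponents_iff.mpr ⟨_, ?_, rfl⟩
  intro w hw
  have h1 : f.fiberι (f ξ) w ⤳ ξ := by
    have := (f.fiberι (f ξ)).isEmbedding.isInducing.specializes_iff.mpr hw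
    rwa [f.fiberι_asFiber] at this
  apply (f.fiberι (f ξ)).isEmbedding.injective
  rw [f.fiberι_asFiber]
  exact hξ _ h1

end K262.FlatDim
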