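import Groth.Agent.Pinch.K838.RingSq
import Mathlib.RingTheory.Flat.FaithfullyFlat.Algebra
import Mathlib.RingTheory.Ideal.GoingUp
import Mathlib.RingTheory.Spectrum.Prime.Topology

set_option autoImplicit false
universe u

/-!
The fibre product ring `B ×_{A/I} A` for a finite flat injective `B → A/I`.
-/

open TensorProduct

namespace K262.PinchAlg

/-- The fibre product ring as a fibre square of modules. -/
theorem isFib (R A B : Type u) [CommRing R] [CommRing A] [CommRing B]
    [Algebra R A] [Algebra R B] (I : Ideal A)
    [Algebra B (A ⧸ I)] [IsScalarTower R B (A ⧸ I)] :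
    K838.RingSq.IsFib
      (((AlgHom.fst R B A).comp (AlgHom.equalizer ((IsScalarTower.toAlgHom R B (A ⧸ I)).comp (AlgHom.fst R B A))
          ((Ideal.Quotient.mkₐ R I).comp (AlgHom.snd R B A))).val).toLinearMap)
      (((AlgHom.snd R B A).comp (AlgHom.equalizer ((IsScalarTower.toAlgHom R B (A ⧸ I)).comp (AlgHom.fst R B A))
          ((Ideal.Quotient.mkₐ R I).comp (AlgHom.snd R B A))).val).toLinearMap)
      (IsScalarTower.toAlgHom R B (A ⧸ I)).toLinearMap
      (Ideal.Quotient.mkₐ R I).toLinearMap where
  w := by
    ext ⟨x, hx⟩
    exact hx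
  lift b a h := ⟨⟨(b, a), h⟩, rfl, rfl⟩
  ext x h1 h2 := Subtype.ext (Prod.ext h1 h2)

/-- An injective finite flat ring map is universally injective. -/
theorem lTensor_injective (R B C : Type u) [CommRing R] [CommRing B] [CommRing C]
    [Algebra R B] [Algebra R C] [Algebra B C] [IsScalarTower R B C] [Module.Finite B C] [Module.Flat B C]
    (hinj : Function.Injective (algebraMap B C)) (K : Type u) [AddCommGroup K] [Module R K] :
    Function.Injective ((IsScalarTower.toAlgHom R B C).toLinearMap.lTensor K) := by
  have : FaithfulSMul B C := (faithfulSMul_iff_algebraMap_injective B C).mpr hinj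
  have hff : Module.FaithfullyFlat B C :=
    Module.FaithfullyFlat.of_comap_surjective (Algebra.IsIntegral.comap_surjective _ _)
  have h1 := Module.FaithfullyFlat.tensorProduct_mk_injective (A := B) (B := C) (B ⊗[R] K)
  have h2 : Function.Injective ((IsScalarTower.toAlgHom R B C).toLinearMap.rTensor K) := by
    let e := TensorProduct.AlgebraTensorModule.cancelBaseChange R B C C K
    have h3 : ∀ x, (IsScalarTower.toAlgHom R B C).toLinearMap.rTensor K x = e (TensorProduct.mk B C (B ⊗[R] K) 1 x) := by
      intro x
      induction x with
      | zero => simp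
      | add x y hx hy => rw [map_add, map_add, map_add, hx, hy]
      | tmul b k =>
        simp [e, Algebra.smul_def]
    intro x y hxy
    rw [h3, h3] at hxy
    exact h1 (e.injective hxy)
  have h4 : ∀ x, (IsScalarTower.toAlgHom R B C).toLinearMap.lTensor K x =
      TensorProduct.comm R C K ((IsScalarTower.toAlgHom R B C).toLinearMap.rTensor K (TensorProduct.comm R K B x)) := by
    intro x
    induction x with
    | zero => simp
    | add x y hx hy => rw [map_add, map_add, map_add, map_add, hx, hy]
    | tmul b k => simp
  intro x y hxy
  rw [h4, h4] at hxy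
  exact (TensorProduct.comm R K B).injective (h2 ((TensorProduct.comm R C K).injective hxy))

end K262.PinchAlg
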