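import Groth.Agent.FlatMor.K261.ShrinkEx

/-!
# Standard shrinkings of complete dévissages: the choice of the functions
-/

set_option autoImplicit false
universe u

namespace K262.ShrFun

open FlatCA TensorProduct Groth.Agent

section

variable {R S : Type u} [CommRing R] [CommRing S] [Algebra R S] {N : Type u} [AddCommGroup N]
  [Module S N] {p : Ideal R} [p.IsPrime] {q : Ideal S} [q.IsPrime] (𝒟 : CompleteDevissage R S N p)
  (𝒜 : CompleteDevissageAt R S N p q 𝒟)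

/-- The backward construction: families with exact matching of the functions. -/
theorem exists_backward (V : ∀ i, 𝒟.B i)
    (hV : ∀ i, i + 1 < 𝒟.n → algebraMap (𝒟.B i) (𝒟.A (i + 1)) (V i) ∣
      algebraMap (𝒟.B (i + 1)) (𝒟.A (i + 1)) (V (i + 1))) :
    ∀ (k j : ℕ), j + k = 𝒟.n - 1 → ∃ W : ∀ i, 𝒟.B i, W (𝒟.n - 1) = V (𝒟.n - 1) ∧
      (∀ i, j ≤ i → i < 𝒟.n → V i ∣ W i) ∧
      ∀ i, j ≤ i → i + 1 < 𝒟.n → algebraMap (𝒟.B i) (𝒟.A (i + 1)) (W i) =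
        algebraMap (𝒟.B (i + 1)) (𝒟.A (i + 1)) (W (i + 1)) := by
  intro k
  induction k with
  | zero =>
    intro j hj
    refine ⟨V, rfl, fun _ _ _ => dvd_rfl, fun i h1 h2 => ?_⟩
    omega
  | succ k ih =>
    intro j hj
    obtain ⟨W, hW1, hW2, hW3⟩ := ih (j + 1) (by omega)
    have hjn : j + 1 < 𝒟.n := by have := 𝒟.pos; omega
    obtain ⟨c, hc⟩ := (hV j hjn).trans (map_dvd (algebraMap (𝒟.B (j + 1)) (𝒟.A (j + 1)))
      (hW2 (j + 1) le_rfl hjn))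
    obtain ⟨c', hc'⟩ := 𝒟.surjBA' j hjn c
    refine ⟨Function.update W j (V j * c'), ?_, ?_, ?_⟩
    · rw [Function.update_of_ne (by omega), hW1]
    · intro i h1 h2
      rcases eq_or_ne i j with rfl | hij
      · rw [Function.update_self]
        exact dvd_mul_right _ _
      · rw [Function.update_of_ne hij]
        exact hW2 i (by omega) h2
    · intro i h1 h2
      rcases eq_or_ne i j with rfl | hij
      · rw [Function.update_self, Function.update_of_ne (by omega), hc, map_mul, hc']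
      · rw [Function.update_of_ne hij, Function.update_of_ne (by omega)]
        exact hW3 i (by omega) h2

include 𝒜 in
theorem exists_family (V : ∀ i, 𝒟.B i)
    (hV : ∀ i, i + 1 < 𝒟.n → algebraMap (𝒟.B i) (𝒟.A (i + 1)) (V i) ∣
      algebraMap (𝒟.B (i + 1)) (𝒟.A (i + 1)) (V (i + 1)))
    (hlast : V (𝒟.n - 1) ∉ 𝒜.qB (𝒟.n - 1)) (u : S)
    (hu : algebraMap S (𝒟.A 0) u ∣ algebraMap (𝒟.B 0) (𝒟.A 0) (V 0)) :
    ∃ (W : ∀ i, 𝒟.B i) (h : S), W (𝒟.n - 1) = V (𝒟.n - 1) ∧ u ∣ h ∧ h ∉ q ∧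
      (∀ i, i < 𝒟.n → W i ∉ 𝒜.qB i) ∧
      algebraMap S (𝒟.A 0) h = algebraMap (𝒟.B 0) (𝒟.A 0) (W 0) ∧
      ∀ i, i + 1 < 𝒟.n → algebraMap (𝒟.B i) (𝒟.A (i + 1)) (W i) =
        algebraMap (𝒟.B (i + 1)) (𝒟.A (i + 1)) (W (i + 1)) := by
  obtain ⟨W, hW1, hW2, hW3⟩ := exists_backward 𝒟 V hV (𝒟.n - 1) 0 (by omega)
  obtain ⟨c, hc⟩ := hu.trans (map_dvd (algebraMap (𝒟.B 0) (𝒟.A 0)) (hW2 0 le_rfl 𝒟.pos))
  obtain ⟨c', hc'⟩ := 𝒟.surjSA c
  have ioA : ∀ i, (𝒜.qA i).LiesOver (𝒜.qB i) := 𝒜.overA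
  have hWq : ∀ (k i : ℕ), i + k = 𝒟.n - 1 → W i ∉ 𝒜.qB i := by
    intro k
    induction k with
    | zero =>
      intro i hi
      obtain rfl : i = 𝒟.n - 1 := by omega
      rw [hW1]
      exact hlast
    | succ k ih =>
      intro i hi h0
      have hin : i + 1 < 𝒟.n := by have := 𝒟.pos; omega
      apply ih (i + 1) (by omega)
      rw [← 𝒜.qStep i hin, Ideal.mem_comap, hW3 i (Nat.zero_le _) hin] at h0
      rw [Ideal.over_def (𝒜.qA (i + 1)) (𝒜.qB (i + 1))]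
      exact h0
  have hWq' : ∀ i, i < 𝒟.n → W i ∉ 𝒜.qB i := fun i hi => hWq (𝒟.n - 1 - i) i (by omega)
  have hh : algebraMap S (𝒟.A 0) (u * c') = algebraMap (𝒟.B 0) (𝒟.A 0) (W 0) := by
    rw [map_mul, hc', hc]
  refine ⟨W, u * c', hW1, dvd_mul_right _ _, ?_, hWq', hh, fun i hi => hW3 i (Nat.zero_le _) hi⟩
  intro h0
  rw [← 𝒜.q0, Ideal.mem_comap, hh] at h0
  apply hWq' 0 𝒟.pos
  rw [Ideal.over_def (𝒜.qA 0) (𝒜.qB 0)]
  exact h0

include 𝒜 in
/-- The forward construction, starting with an element of `S`. -/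
theorem exists_forward (u : S) (hu : u ∉ q) : ∃ V : ∀ i, 𝒟.B i, V (𝒟.n - 1) ∉ 𝒜.qB (𝒟.n - 1) ∧
    algebraMap S (𝒟.A 0) u ∣ algebraMap (𝒟.B 0) (𝒟.A 0) (V 0) ∧
    ∀ i, i + 1 < 𝒟.n → algebraMap (𝒟.B i) (𝒟.A (i + 1)) (V i) ∣
      algebraMap (𝒟.B (i + 1)) (𝒟.A (i + 1)) (V (i + 1)) := by
  have iqB : ∀ i, (𝒜.qB i).IsPrime := 𝒜.hqB
  have key : ∀ k : ℕ, k < 𝒟.n → ∃ V : ∀ i, 𝒟.B i, V k ∉ 𝒜.qB k ∧
      algebraMap S (𝒟.A 0) u ∣ algebraMap (𝒟.B 0) (𝒟.A 0) (V 0) ∧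
      ∀ i, i + 1 ≤ k → algebraMap (𝒟.B i) (𝒟.A (i + 1)) (V i) ∣
        algebraMap (𝒟.B (i + 1)) (𝒟.A (i + 1)) (V (i + 1)) := by
    intro k
    induction k with
    | zero =>
      intro hk
      have := 𝒟.finiteBA 0 hk
      have hu' : algebraMap S (𝒟.A 0) u ∉ 𝒜.qA 0 := fun h0 => hu (by rw [← 𝒜.q0]; exact h0)
      obtain ⟨b, hb, hub⟩ := Flat2A.CDevLoc.exists_dvd (𝒜.qB 0) (𝒜.qA 0) (𝒜.uniq 0 hk) _ hu'
      refine ⟨Function.update (fun _ => 1) 0 b, ?_, ?_, fun i hi => ?_⟩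
      · rw [Function.update_self]
        exact hb
      · rw [Function.update_self]
        exact hub
      · omega
    | succ k ih =>
      intro hk
      obtain ⟨V, hV1, hV2, hV3⟩ := ih (by omega)
      have := 𝒟.finiteBA (k + 1) hk
      have hu' : algebraMap (𝒟.B k) (𝒟.A (k + 1)) (V k) ∉ 𝒜.qA (k + 1) := fun h0 =>
        hV1 (by rw [← 𝒜.qStep k hk]; exact h0)
      obtain ⟨b, hb, hub⟩ := Flat2A.CDevLoc.exists_dvd (𝒜.qB (k + 1)) (𝒜.qA (k + 1))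
        (𝒜.uniq (k + 1) hk) _ hu'
      refine ⟨Function.update V (k + 1) b, ?_, ?_, fun i hi => ?_⟩
      · rw [Function.update_self]
        exact hb
      · rw [Function.update_of_ne (by omega)]
        exact hV2
      · rcases eq_or_ne i k with rfl | hik
        · rw [Function.update_self, Function.update_of_ne (by omega)]
          exact hub
        · rw [Function.update_of_ne (by omega), Function.update_of_ne (by omega)]
          exact hV3 i (by omega)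
  obtain ⟨V, h1, h2, h3⟩ := key (𝒟.n - 1) (by have := 𝒟.pos; omega)
  exact ⟨V, h1, h2, fun i hi => h3 i (by omega)⟩

include 𝒜 in
/-- The base open. -/
theorem exists_base (W : ∀ i, 𝒟.B i) (hW : ∀ i, i < 𝒟.n → W i ∉ 𝒜.qB i) :
    ∃ g : R, g ∉ p ∧ ∀ i, i < 𝒟.n → ∀ (A D' : Type u) [CommRing A] [CommRing D'] [Algebra R A]
      [Algebra (𝒟.B i) D'] [Algebra A D'] [Algebra R D'] [IsScalarTower R A D']
      [IsScalarTower R (𝒟.B i) D'] [IsLocalization.Away g A]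
      [IsLocalization.Away (W i * algebraMap R (𝒟.B i) g) D'], FlatCA.GeomIrredFibres A D' := by
  have iqB : ∀ i, (𝒜.qB i).IsPrime := 𝒜.hqB
  have ioB : ∀ i, (𝒜.qB i).LiesOver p := 𝒜.overB
  have key : ∀ i : ℕ, ∃ g : R, g ∉ p ∧ (i < 𝒟.n → ∀ h' : R, g ∣ h' → h' ∉ p →
      ∀ (Rh Bh : Type u) [CommRing Rh] [CommRing Bh] [Algebra R Rh] [Algebra (𝒟.B i) Bh] [Algebra Rh Bh]
        [Algebra R Bh] [IsScalarTower R Rh Bh] [IsScalarTower R (𝒟.B i) Bh] [IsLocalization.Away h' Rh]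
        [IsLocalization.Away (algebraMap R (𝒟.B i) h' * W i) Bh], FlatCA.GeomIntegralFibres Rh Bh) := by
    intro i
    by_cases hi : i < 𝒟.n
    · have := 𝒟.smooth i hi
      obtain ⟨g, hg, H⟩ := Flat2A.GILoc.exists_geomIntegral_away
        (Flat2A.DimSmooth.geomIntegral_of_smooth (𝒟.geomIrred i hi)) p (𝒜.qB i) (W i) (hW i hi)
      exact ⟨g, hg, fun _ => H⟩
    · exact ⟨1, Ideal.one_notMem p, fun h => absurd h hi⟩
  choose G hG1 hG2 using key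
  have hprod : ∏ i ∈ Finset.range 𝒟.n, G i ∉ p := by
    rw [Ideal.IsPrime.prod_mem_iff]
    push Not
    exact fun i _ => hG1 i
  refine ⟨∏ i ∈ Finset.range 𝒟.n, G i, hprod, ?_⟩
  intro i hi A D' _ _ _ _ _ _ _ _ _ hL
  have hL' : IsLocalization.Away (algebraMap R (𝒟.B i) (∏ i ∈ Finset.range 𝒟.n, G i) * W i) D' := by
    rw [mul_comm]; exact hL
  have := hG2 i hi _ (Finset.dvd_prod_of_mem G (Finset.mem_range.mpr hi)) hprod A D'
  have h2 : AlgebraicGeometry.GeometricallyIntegral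
    (AlgebraicGeometry.Spec.map (CommRingCat.ofHom (algebraMap A D'))) := this
  exact (inferInstance : AlgebraicGeometry.GeometricallyIrreducible
    (AlgebraicGeometry.Spec.map (CommRingCat.ofHom (algebraMap A D'))))

end

end K262.ShrFun
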