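import Groth.Agent.FlatMor.K262.ShrMod
import Groth.Agent.FlatMor.K262.ShrFun
import Groth.Agent.FlatMor.K261.CDevAsm

/-!
# Standard shrinkings of complete dévissages: assembly
-/

set_option autoImplicit false
universe u

namespace K262.ShrAsm

open FlatCA TensorProduct K262.ShrFam K262.ShrMod Groth.Agent
open Groth.Agent.Flat2B.PointBC Groth.Agent.Flat2B.FibreBC Groth.Agent.Flat2B.BCTools
open Groth.Agent.Flat2B.StepBC
open Groth.Agent.Flat2B.EtaleNhd (liesOver_map_away)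
open Groth.Agent.Flat2A.CDevLoc (eq_of_comap_eq isPushout_away)
open Groth.Agent.Flat2A.CDevMain (liesOver_away)

section

variable {R S : Type u} [CommRing R] [CommRing S] [Algebra R S] {N : Type u} [AddCommGroup N]
  [Module S N] {p : Ideal R} [p.IsPrime] {𝒟 : CompleteDevissage R S N p} (Z : ShrData 𝒟)

theorem etale_fB (i : Fin 𝒟.n) : Algebra.Etale (𝒟.B i) (fB Z i) :=
  have := isLocalization_fB Z i
  Algebra.Etale.of_isLocalizationAway (Z.b i)

theorem etale_Rg : Algebra.Etale R (Rg Z) := Algebra.Etale.of_isLocalizationAway Z.g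

theorem poRD (i : Fin 𝒟.n) : Algebra.IsPushout R (fB Z i) (Rg Z) (fB Z i) := by
  have h1 : IsUnit (algebraMap R (fB Z i) Z.g) := by
    rw [IsScalarTower.algebraMap_apply R (Rg Z) (fB Z i)]
    exact (IsLocalization.Away.algebraMap_isUnit Z.g).map _
  have : IsLocalization.Away (algebraMap R (fB Z i) Z.g) (fB Z i) :=
    IsLocalization.away_of_isUnit_of_bijective _ h1 Function.bijective_id
  exact isPushout_away Z.g

theorem smooth_fB (i : Fin 𝒟.n) : Algebra.Smooth (Rg Z) (fB Z i) := by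
  have h1 := 𝒟.smooth i i.2
  have h2 := etale_fB Z i
  have h3 : Algebra.Smooth R (fB Z i) := Algebra.Smooth.comp R (𝒟.B i) (fB Z i)
  have := poRD Z i
  exact smooth_of_isPushout R (fB Z i) (Rg Z) (fB Z i)

theorem relDim_fB (i : Fin 𝒟.n) (d : ℕ) (h : SmoothRelDim d R (𝒟.B i)) :
    SmoothRelDim d (Rg Z) (fB Z i) := by
  have h2 := etale_fB Z i
  have := poRD Z i
  exact Flat2A.CDevBC.smoothRelDim_baseChange (R := R) (B := fB Z i) (R' := Rg Z) (B' := fB Z i)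
    (Flat2A.CDevBC.smoothRelDim_etale (R := R) (B := 𝒟.B i) (B' := fB Z i) h)

theorem finiteBA_f (i : Fin 𝒟.n) : Module.Finite (fB Z i) (fA Z i) :=
  have := poBA Z i
  have := 𝒟.finiteBA i i.2
  finite_of_isPushout (𝒟.B i) (𝒟.A i) (fB Z i) (fA Z i)

theorem finiteM_f (i : Fin 𝒟.n) : Module.Finite (fA Z i) (fM Z i) :=
  have := 𝒟.finiteM i i.2
  Module.Finite.equiv (isBaseChange_fg Z i).equiv

theorem finite_BM (i : Fin 𝒟.n) : Module.Finite (𝒟.B i) (𝒟.M i) :=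
  have := 𝒟.finiteM i i.2
  have := 𝒟.finiteBA i i.2
  Module.Finite.trans (𝒟.A i) (𝒟.M i)

theorem next_f (i : Fin 𝒟.n) (hi : (i : ℕ) + 1 < 𝒟.n) :
    Function.Surjective (algebraMap (fB Z i) (fA Z (i + 1))) ∧
      Algebra.FinitePresentation (fB Z i) (fA Z (i + 1)) := by
  let j : Fin 𝒟.n := ⟨i + 1, hi⟩
  let a1 : Algebra (𝒟.A (i + 1)) (fA Z (i + 1)) := algA Z j
  have t1 : IsScalarTower (𝒟.B i) (𝒟.A (i + 1)) (fA Z (i + 1)) := tower_next Z i hi
  have l1 := isLocalization_fB Z i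
  have l2 : IsLocalization.Away (algebraMap (𝒟.B i) (𝒟.A (i + 1)) (Z.b i)) (fA Z (i + 1)) := by
    rw [map_b Z i hi]
    exact isLocalization_fA Z j
  have po : Algebra.IsPushout (𝒟.B i) (𝒟.A (i + 1)) (fB Z i) (fA Z (i + 1)) :=
    isPushout_away (Z.b i)
  have := 𝒟.fpBA' i hi
  exact ⟨surjective_of_isPushout (𝒟.B i) (𝒟.A (i + 1)) (fB Z i) (fA Z (i + 1)) (𝒟.surjBA' i hi),
    finitePresentation_of_isPushout (𝒟.B i) (𝒟.A (i + 1)) (fB Z i) (fA Z (i + 1))⟩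

/-- the geometric irreducibility of the fibres -/
def Irr : Prop := ∀ i, i < 𝒟.n → ∀ (A D' : Type u) [CommRing A] [CommRing D'] [Algebra R A]
      [Algebra (𝒟.B i) D'] [Algebra A D'] [Algebra R D'] [IsScalarTower R A D']
      [IsScalarTower R (𝒟.B i) D'] [IsLocalization.Away Z.g A]
      [IsLocalization.Away (Z.W i * algebraMap R (𝒟.B i) Z.g) D'], FlatCA.GeomIrredFibres A D'

variable {Z} in
theorem irr_fB (h : Irr Z) (i : Fin 𝒟.n) : GeomIrredFibres (Rg Z) (fB Z i) := by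
  have h1 : IsLocalization.Away (Z.W i * algebraMap R (𝒟.B i) Z.g) (fB Z i) :=
    isLocalization_fB Z i
  exact h i i.2 (Rg Z) (fB Z i)

variable {Z} in
theorem irr_LB (h : Irr Z) (i : ℕ) (hi : i < 𝒟.n) : GeomIrredFibres (Rg Z) (LB Z i) := by
  have h1 : IsLocalization.Away (Z.W i * algebraMap R (𝒟.B i) Z.g) (LB Z i) :=
    inferInstanceAs (IsLocalization.Away (Z.b i) (Localization.Away (Z.b i)))
  exact h i hi (Rg Z) (LB Z i)

theorem isPrime_of_bijective {A B C : Type u} [CommRing A] [CommRing B] [CommRing C] [Algebra A B]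
    [Algebra A C] (f : B →ₐ[A] C) (hf : Function.Bijective f) (I : Ideal A)
    (h : (I.map (algebraMap A C)).IsPrime) : (I.map (algebraMap A B)).IsPrime := by
  have h1 : (I.map (algebraMap A C)).comap f = I.map (algebraMap A B) := by
    have h2 : I.map (algebraMap A C) = (I.map (algebraMap A B)).map f.toRingHom := by
      rw [Ideal.map_map]
      congr 1
      exact f.comp_algebraMap.symm
    rw [h2]
    exact Ideal.comap_map_of_bijective f.toRingHom hf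
  rw [← h1]
  exact Ideal.IsPrime.comap _

variable {Z} in
theorem irr_isPrime (h : Irr Z) (p' : Ideal (Rg Z)) [p'.IsPrime] (i : ℕ) :
    (p'.map (algebraMap (Rg Z) (fB Z i))).IsPrime := by
  by_cases hi : i < 𝒟.n
  · exact K261.CDevMod.isPrime_map_of_smooth (smooth_fB Z ⟨i, hi⟩) (irr_fB h ⟨i, hi⟩) p'
  · refine isPrime_of_bijective (prB' Z i hi) (prB'_bijective Z i hi) p' ?_
    have hn : 𝒟.n - 1 < 𝒟.n := Nat.sub_lt 𝒟.pos Nat.one_pos
    have h1 := K261.CDevMod.isPrime_map_of_smooth (smooth_fB Z ⟨_, hn⟩) (irr_fB h ⟨_, hn⟩) p'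
    exact isPrime_of_bijective ((eB Z (𝒟.n - 1) hn).symm : LB Z (𝒟.n - 1) →ₐ[Rg Z] _)
      (eB Z (𝒟.n - 1) hn).symm.bijective p' h1

theorem fibreIso_fα (i : Fin 𝒟.n)
    [hP' : ((p.map (algebraMap R (Rg Z))).map (algebraMap (Rg Z) (fB Z i))).IsPrime] :
    Function.Bijective ((fα Z i).baseChange
      ((p.map (algebraMap R (Rg Z))).map (algebraMap (Rg Z) (fB Z i))).ResidueField) := by
  have hl := isLocalization_fB Z i
  have he : (p.map (algebraMap R (Rg Z))).map (algebraMap (Rg Z) (fB Z i)) =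
      (p.map (algebraMap R (𝒟.B i))).map (algebraMap (𝒟.B i) (fB Z i)) := by
    rw [Ideal.map_map, Ideal.map_map, ← IsScalarTower.algebraMap_eq, ← IsScalarTower.algebraMap_eq]
  have h2 : ((p.map (algebraMap R (Rg Z))).map (algebraMap (Rg Z) (fB Z i))).LiesOver
      (p.map (algebraMap R (𝒟.B i))) := by
    refine ⟨?_⟩
    rw [he, Ideal.under_def]
    refine (IsLocalization.under_map_of_isPrime_disjoint (Submonoid.powers (Z.b i)) _ (𝒟.hp i) ?_).symm
    rw [Set.disjoint_left]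
    intro x hx hx'
    apply hP'.ne_top
    rw [he]
    refine Ideal.eq_top_of_isUnit_mem _ (Ideal.mem_map_of_mem _ hx') ?_
    exact IsLocalization.map_units (fB Z i) (⟨x, hx⟩ : Submonoid.powers (Z.b i))
  have h3 := fibreIso_aux (p.map (algebraMap R (𝒟.B i)))
        ((p.map (algebraMap R (Rg Z))).map (algebraMap (Rg Z) (fB Z i))) (𝒟.α i)
        ((fg Z i).restrictScalars (𝒟.B i)) (isBaseChange_fg_B Z i) (isBaseChange_fβ Z i)
        (𝒟.fibreIso i i.2)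
  have h4 : fα Z i = (isBaseChange_fβ Z i).lift
      (((fg Z i).restrictScalars (𝒟.B i)).comp (𝒟.α i)) := by
    apply (isBaseChange_fβ Z i).algHom_ext
    intro x
    rw [fα_fβ, (isBaseChange_fβ Z i).lift_eq]
    rfl
  rw [h4]
  exact h3

theorem pure_f (i : Fin 𝒟.n) [(p.map (algebraMap R (Rg Z))).IsPrime]
    [(p.map (algebraMap R (Rg Z))).LiesOver p] (P : Ideal (𝒟.B i)) [P.IsPrime] [P.LiesOver p]
    (Q : Ideal (fB Z i)) [Q.IsPrime] [Q.LiesOver P] [Q.LiesOver (p.map (algebraMap R (Rg Z)))]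
    (h : PurelyTranscendental p P) : PurelyTranscendental (p.map (algebraMap R (Rg Z))) Q := by
  have l1 := isLocalization_fB Z i
  exact Flat2B.PointBC.purelyTranscendental_of_resTriv
    (K261.ShrinkCore.resTriv_point (Submonoid.powers Z.g) p _)
    (K261.ShrinkCore.resTriv_point (Submonoid.powers (Z.b i)) P Q) h

theorem uniq_f (i : Fin 𝒟.n) (P : Ideal (𝒟.B i)) (P₁ : Ideal (𝒟.A i))
    (H : ∀ (Q : Ideal (𝒟.A i)) [Q.IsPrime], Q.LiesOver P → Q = P₁) (Q : Ideal (fB Z i))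
    (Q₁ : Ideal (fA Z i)) [hQ : Q.LiesOver P] [hQ₁ : Q₁.LiesOver P₁] (Q' : Ideal (fA Z i)) [Q'.IsPrime]
    (h : Q'.LiesOver Q) : Q' = Q₁ := by
  have l1 := isLocalization_fA Z i
  have h5 : (Q'.comap (algebraMap (𝒟.A i) (fA Z i))).IsPrime := Ideal.IsPrime.comap _
  have h6 : Q'.comap (algebraMap (𝒟.A i) (fA Z i)) = P₁ := by
    refine H _ ⟨?_⟩
    rw [Ideal.under_def, Ideal.comap_comap, ← IsScalarTower.algebraMap_eq,
      IsScalarTower.algebraMap_eq (𝒟.B i) (fB Z i) (fA Z i), ← Ideal.comap_comap,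
      ← Ideal.under_def (fB Z i) Q', ← h.over]
    exact hQ.over
  refine eq_of_comap_eq (R := 𝒟.A i) (R' := fA Z i) (Submonoid.powers (Z.a i)) ?_
  rw [h6]
  exact hQ₁.over

theorem step_f (i : Fin 𝒟.n) (hi : (i : ℕ) + 1 < 𝒟.n) (P : Ideal (𝒟.B i)) (P₁ : Ideal (𝒟.A (i + 1)))
    (H : P₁.comap (algebraMap (𝒟.B i) (𝒟.A (i + 1))) = P) (Q : Ideal (fB Z i))
    (Q₁ : Ideal (fA Z (i + 1))) [hQ : Q.LiesOver P]
    (hQ₁ : letI := algA Z ⟨i + 1, hi⟩; P₁ = Q₁.comap (algebraMap (𝒟.A (i + 1)) (fA Z (i + 1)))) :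
    Q₁.comap (algebraMap (fB Z i) (fA Z (i + 1))) = Q := by
  have l1 := isLocalization_fB Z i
  refine eq_of_comap_eq (R := 𝒟.B i) (R' := fB Z i) (Submonoid.powers (Z.b i)) ?_
  let a1 : Algebra (𝒟.A (i + 1)) (fA Z (i + 1)) := algA Z ⟨i + 1, hi⟩
  have t1 : IsScalarTower (𝒟.B i) (𝒟.A (i + 1)) (fA Z (i + 1)) := tower_next Z i hi
  have h2 : P₁ = Q₁.comap (algebraMap (𝒟.A (i + 1)) (fA Z (i + 1))) := hQ₁
  rw [Ideal.comap_comap, ← IsScalarTower.algebraMap_eq (𝒟.B i) (fB Z i) (fA Z (i + 1)),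
    IsScalarTower.algebraMap_eq (𝒟.B i) (𝒟.A (i + 1)) (fA Z (i + 1)), ← Ideal.comap_comap,
    ← h2, H]
  exact hQ.over

theorem locDim_f (i : Fin 𝒟.n) [(p.map (algebraMap R (Rg Z))).IsPrime]
    [(p.map (algebraMap R (Rg Z))).LiesOver p] (P : Ideal (𝒟.B i)) [P.IsPrime] [P.LiesOver p]
    (Q : Ideal (fB Z i)) [Q.IsPrime] [Q.LiesOver P] [Q.LiesOver (p.map (algebraMap R (Rg Z)))]
    (d : WithBot ℕ∞)
    (h : ∃ (x : PrimeSpectrum (p.Fiber (𝒟.B i)))
      (hx : x ∈ Module.support (p.Fiber (𝒟.B i)) (fiberMod p (𝒟.B i) (𝒟.M i))),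
      x.asIdeal = fiberIdeal p P ∧
      FlatMor.localDim (Module.support (p.Fiber (𝒟.B i)) (fiberMod p (𝒟.B i) (𝒟.M i))) ⟨x, hx⟩ = d) :
    ∃ (x : PrimeSpectrum ((p.map (algebraMap R (Rg Z))).Fiber (fB Z i)))
      (hx : x ∈ Module.support ((p.map (algebraMap R (Rg Z))).Fiber (fB Z i))
        (fiberMod (p.map (algebraMap R (Rg Z))) (fB Z i) (fM Z i))),
      x.asIdeal = fiberIdeal (p.map (algebraMap R (Rg Z))) Q ∧
      FlatMor.localDim (Module.support ((p.map (algebraMap R (Rg Z))).Fiber (fB Z i))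
        (fiberMod (p.map (algebraMap R (Rg Z))) (fB Z i) (fM Z i))) ⟨x, hx⟩ = d := by
  have h2 := etale_fB Z i
  have h3 := finite_BM i
  have hE : Algebra.Etale R (Rg Z) := etale_Rg Z
  exact K261.ShrinkDim.localDim_etale_support (R := R) (S := 𝒟.B i) (R' := Rg Z) (S' := fB Z i)
    p (p.map (algebraMap R (Rg Z))) (𝒟.M i) (fM Z i) ((fg Z i).restrictScalars (𝒟.B i))
    (isBaseChange_fg_B Z i) P Q d h

variable {Z} in
/-- The points of the localized pieces. -/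
theorem points_fin {q : Ideal S} [q.IsPrime] (𝒜 : CompleteDevissageAt R S N p q 𝒟)
    (hg : Z.g ∉ p) (hW : ∀ i, i < 𝒟.n → Z.W i ∉ 𝒜.qB i) (i : Fin 𝒟.n) :
    ∃ (Q : Ideal (fB Z i)) (P : Ideal (fA Z i)), (Q.LiesOver (𝒜.qB i) ∧ P.LiesOver (𝒜.qA i)) ∧
      Q.IsPrime ∧ P.IsPrime ∧ Q.LiesOver (p.map (algebraMap R (Rg Z))) ∧ P.LiesOver Q := by
  have iqB : ∀ i, (𝒜.qB i).IsPrime := 𝒜.hqB
  have iqA : ∀ i, (𝒜.qA i).IsPrime := 𝒜.hqA
  have ioB : ∀ i, (𝒜.qB i).LiesOver p := 𝒜.overB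
  have ioA : ∀ i, (𝒜.qA i).LiesOver (𝒜.qB i) := 𝒜.overA
  have l1 := isLocalization_fB Z i
  have l2 := isLocalization_fA Z i
  have hb : Z.b i ∉ 𝒜.qB i := by
    intro h0
    rcases Ideal.IsPrime.mem_or_mem inferInstance h0 with h0 | h0
    · exact hW i i.2 h0
    · exact hg ((Ideal.over_def (𝒜.qB i) p).ge h0)
  have ha : Z.a i ∉ 𝒜.qA i := by
    intro h0
    apply hb
    rw [Ideal.over_def (𝒜.qA i) (𝒜.qB i)]
    exact h0
  obtain ⟨hp1, hp2⟩ := liesOver_map_away (R' := Rg Z) (p := p) Z.g hg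
  obtain ⟨hy1, hy2⟩ := liesOver_map_away (R' := fB Z i) (p := 𝒜.qB i) (Z.b i) hb
  obtain ⟨hz1, hz2⟩ := liesOver_map_away (R' := fA Z i) (p := 𝒜.qA i) (Z.a i) ha
  exact ⟨_, _, ⟨hy2, hz2⟩, hy1, hz1, liesOver_away (Submonoid.powers Z.g) p (𝒜.qB i) _ _,
    liesOver_away (Submonoid.powers (Z.b i)) (𝒜.qB i) (𝒜.qA i) _ _⟩

variable {Z} in
/-- The points of the tail. -/
theorem points_tail {q : Ideal S} [q.IsPrime] (𝒜 : CompleteDevissageAt R S N p q 𝒟)
    (hg : Z.g ∉ p) (hW : ∀ i, i < 𝒟.n → Z.W i ∉ 𝒜.qB i) (i : ℕ) (hi : ¬ i < 𝒟.n) :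
    ∃ (Q : Ideal (fB Z i)) (P : Ideal (fA Z i)),
      Q.IsPrime ∧ P.IsPrime ∧ Q.LiesOver (p.map (algebraMap R (Rg Z))) ∧ P.LiesOver Q := by
  have hn : 𝒟.n - 1 < 𝒟.n := Nat.sub_lt 𝒟.pos Nat.one_pos
  obtain ⟨Q, P, -, hQ, -, hQ', -⟩ := points_fin (Z := Z) 𝒜 hg hW ⟨_, hn⟩
  let e : T Z →ₐ[Rg Z] fB Z (𝒟.n - 1) := (eB Z (𝒟.n - 1) hn).symm
  refine ⟨Q.comap ((e.comp (prB' Z i hi)) : fB Z i →+* fB Z (𝒟.n - 1)),
    Q.comap ((e.comp (prA' Z i hi)) : fA Z i →+* fB Z (𝒟.n - 1)), Ideal.IsPrime.comap _,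
    Ideal.IsPrime.comap _, ⟨?_⟩, ⟨?_⟩⟩
  · rw [Ideal.under_def, Ideal.comap_comap]
    have h1 : ((e.comp (prB' Z i hi)) : fB Z i →+* fB Z (𝒟.n - 1)).comp (algebraMap (Rg Z) (fB Z i)) =
        algebraMap (Rg Z) (fB Z (𝒟.n - 1)) := (e.comp (prB' Z i hi)).comp_algebraMap
    rw [h1]
    exact hQ'.over
  · rw [Ideal.under_def, Ideal.comap_comap]
    congr 1

variable {Z} in
theorem exists_points {q : Ideal S} [q.IsPrime] (𝒜 : CompleteDevissageAt R S N p q 𝒟)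
    (hg : Z.g ∉ p) (hW : ∀ i, i < 𝒟.n → Z.W i ∉ 𝒜.qB i) :
    ∃ (qB' : ∀ i, Ideal (fB Z i)) (qA' : ∀ i, Ideal (fA Z i)),
      (∀ i : Fin 𝒟.n, (qB' i).LiesOver (𝒜.qB i) ∧ (qA' i).LiesOver (𝒜.qA i)) ∧
      ∀ i, (qB' i).IsPrime ∧ (qA' i).IsPrime ∧ (qB' i).LiesOver (p.map (algebraMap R (Rg Z))) ∧
        (qA' i).LiesOver (qB' i) := by
  classical
  choose Q P hQ hQ' using points_fin (Z := Z) 𝒜 hg hW
  choose Qt Pt ht using points_tail (Z := Z) 𝒜 hg hW
  refine ⟨fun i => if h : i < 𝒟.n then Q ⟨i, h⟩ else Qt i h,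
      fun i => if h : i < 𝒟.n then P ⟨i, h⟩ else Pt i h, ?_, ?_⟩
  · rintro ⟨i, hi⟩
    simp only [dif_pos hi]
    exact hQ ⟨i, hi⟩
  · intro i
    by_cases hi : i < 𝒟.n
    · simp only [dif_pos hi]
      exact hQ' ⟨i, hi⟩
    · simp only [dif_neg hi]
      exact ht i hi

end

/-- The standard shrinking of a complete dévissage at a point. -/
theorem exists_shrink
    (R S : Type u) [CommRing R] [CommRing S] [Algebra R S] [Algebra.FiniteType R S]
    (N : Type u) [AddCommGroup N] [Module S N] [Module.Finite S N]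
    (p : Ideal R) [p.IsPrime] (q : Ideal S) [q.IsPrime] (𝒟 : FlatCA.CompleteDevissage R S N p)
    (𝒜 : FlatCA.CompleteDevissageAt R S N p q 𝒟) (Z : ShrData 𝒟) (hX : S)
    (hZX : algebraMap S (𝒟.A 0) hX = Z.a 0) (gX : algebraMap R S Z.g ∣ hX) (hXq : hX ∉ q)
    (hg : Z.g ∉ p) (hW : ∀ i, i < 𝒟.n → Z.W i ∉ 𝒜.qB i) (hirr : Irr Z) :
      ∃ (_ : Algebra (Localization.Away Z.g) (Localization.Away hX)) (_ : IsScalarTower R (Localization.Away Z.g) (Localization.Away hX))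
        (_ : Module (Localization.Away Z.g) (LocalizedModule (Submonoid.powers hX) N)) (_ : IsScalarTower (Localization.Away Z.g) (Localization.Away hX) (LocalizedModule (Submonoid.powers hX) N))
        (_ : (Ideal.map (algebraMap R (Localization.Away Z.g)) p).IsPrime) (_ : (Ideal.map (algebraMap S (Localization.Away hX)) q).IsPrime)
        (𝒟' : FlatCA.CompleteDevissage (Localization.Away Z.g) (Localization.Away hX) (LocalizedModule (Submonoid.powers hX) N) (Ideal.map (algebraMap R (Localization.Away Z.g)) p))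
        (𝒜' : FlatCA.CompleteDevissageAt (Localization.Away Z.g) (Localization.Away hX) (LocalizedModule (Submonoid.powers hX) N) (Ideal.map (algebraMap R (Localization.Away Z.g)) p) (Ideal.map (algebraMap S (Localization.Away hX)) q) 𝒟')
      (aA : ∀ i : Fin 𝒟.n, Algebra (𝒟.A i) (𝒟'.A i)) (rA : ∀ i : Fin 𝒟.n, Algebra R (𝒟'.A i))
      (_t1 : ∀ i : Fin 𝒟.n, IsScalarTower R (Localization.Away Z.g) (𝒟'.A i)) (_t2 : ∀ i : Fin 𝒟.n, IsScalarTower R (𝒟.A i) (𝒟'.A i))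
      (aB : ∀ i : Fin 𝒟.n, Algebra (𝒟.B i) (𝒟'.B i)) (rB : ∀ i : Fin 𝒟.n, Algebra R (𝒟'.B i))
      (_t3 : ∀ i : Fin 𝒟.n, IsScalarTower R (Localization.Away Z.g) (𝒟'.B i)) (_t4 : ∀ i : Fin 𝒟.n, IsScalarTower R (𝒟.B i) (𝒟'.B i))
      (bA : ∀ i : Fin 𝒟.n, Algebra (𝒟.B i) (𝒟'.A i)) (_t5 : ∀ i : Fin 𝒟.n, IsScalarTower (𝒟.B i) (𝒟.A i) (𝒟'.A i))
      (_t6 : ∀ i : Fin 𝒟.n, IsScalarTower (𝒟.B i) (𝒟'.B i) (𝒟'.A i))
      (bA' : ∀ i : Fin 𝒟.n, Algebra (𝒟.B i) (𝒟'.A (i + 1)))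
      (_t7 : ∀ i : Fin 𝒟.n, IsScalarTower (𝒟.B i) (𝒟'.B i) (𝒟'.A (i + 1)))
      (sA : Algebra S (𝒟'.A 0)) (_t8 : IsScalarTower S (Localization.Away hX) (𝒟'.A 0))
      (mA : ∀ i : Fin 𝒟.n, Module (𝒟.A i) (𝒟'.M i)) (_t9 : ∀ i : Fin 𝒟.n, IsScalarTower (𝒟.A i) (𝒟'.A i) (𝒟'.M i))
      (gM : ∀ i : Fin 𝒟.n, 𝒟.M i →ₗ[𝒟.A i] 𝒟'.M i),
        𝒟'.n = 𝒟.n ∧ 𝒟'.r = 𝒟.r ∧ 𝒜'.d = 𝒜.d ∧
        (letI := aA ⟨0, 𝒟.pos⟩; IsScalarTower S (𝒟.A 0) (𝒟'.A 0)) ∧
      (∀ x : N, 𝒟'.isoN (LocalizedModule.mkLinearMap (Submonoid.powers hX) N x) = gM ⟨0, 𝒟.pos⟩ (𝒟.isoN x)) ∧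
      (∀ (i : Fin 𝒟.n) (h : (i : ℕ) + 1 < 𝒟.n),
        letI := aA ⟨i + 1, h⟩; IsScalarTower (𝒟.B i) (𝒟.A (i + 1)) (𝒟'.A (i + 1))) ∧
        ∀ i : Fin 𝒟.n,
          Z.a i ∉ 𝒜.qA i ∧ Z.b i ∉ 𝒜.qB i ∧
          IsLocalization.Away (Z.a i) (𝒟'.A i) ∧ IsLocalization.Away (Z.b i) (𝒟'.B i) ∧
          IsLocalizedModule (Submonoid.powers (Z.a i)) (gM i) ∧
          (𝒜'.qA i).LiesOver (𝒜.qA i) ∧ (𝒜'.qB i).LiesOver (𝒜.qB i) ∧
          LinearMap.range (𝒟'.α i) =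
            Submodule.span (𝒟'.B i) ((gM i) '' (LinearMap.range (𝒟.α i) : Set (𝒟.M i))) := by
  have iqB : ∀ i, (𝒜.qB i).IsPrime := 𝒜.hqB
  have iqA : ∀ i, (𝒜.qA i).IsPrime := 𝒜.hqA
  have ioB : ∀ i, (𝒜.qB i).LiesOver p := 𝒜.overB
  have ioA : ∀ i, (𝒜.qA i).LiesOver (𝒜.qB i) := 𝒜.overA
  have hb : ∀ i : Fin 𝒟.n, Z.b i ∉ 𝒜.qB i := by
    intro i h0
    rcases Ideal.IsPrime.mem_or_mem inferInstance h0 with h0 | h0
    · exact hW i i.2 h0
    · exact hg ((Ideal.over_def (𝒜.qB i) p).ge h0)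
  have ha : ∀ i : Fin 𝒟.n, Z.a i ∉ 𝒜.qA i := fun i h0 => hb i ((Ideal.over_def (𝒜.qA i) (𝒜.qB i)).ge h0)
  -- the base
  have uX : IsUnit (algebraMap R (Localization.Away hX) Z.g) := by
    rw [IsScalarTower.algebraMap_apply R S (Localization.Away hX)]
    exact isUnit_of_dvd_unit (map_dvd (algebraMap S (Localization.Away hX)) gX)
      (IsLocalization.Away.algebraMap_isUnit _)
  let aAX : Algebra (Localization.Away Z.g) (Localization.Away hX) :=
    (IsLocalization.Away.lift Z.g uX).toAlgebra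
  have tAX : IsScalarTower R (Localization.Away Z.g) (Localization.Away hX) :=
    IsScalarTower.of_algebraMap_eq fun r => (IsLocalization.Away.lift_eq Z.g uX r).symm
  let mAN : Module (Localization.Away Z.g) (LocalizedModule (Submonoid.powers hX) N) :=
    Module.compHom _ (algebraMap (Localization.Away Z.g) (Localization.Away hX))
  have tAN : IsScalarTower (Localization.Away Z.g) (Localization.Away hX)
      (LocalizedModule (Submonoid.powers hX) N) := IsScalarTower.of_algebraMap_smul fun _ _ => rfl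
  obtain ⟨hp1, hp2⟩ := liesOver_map_away (R' := Localization.Away Z.g) (p := p) Z.g hg
  obtain ⟨hq1, hq2⟩ := liesOver_map_away (R' := Localization.Away hX) (p := q) hX hXq
  -- the algebra structures on `fA 0`
  let o : Fin 𝒟.n := ⟨0, 𝒟.pos⟩
  let a0 : Algebra (𝒟.A 0) (fA Z 0) := algA Z o
  have tR0 : IsScalarTower R (𝒟.A 0) (fA Z 0) := towRA Z o
  have l0 : IsLocalization.Away (Z.a 0) (fA Z 0) := isLocalization_fA Z o
  let aSA : Algebra S (fA Z 0) :=
    ((algebraMap (𝒟.A 0) (fA Z 0)).comp (algebraMap S (𝒟.A 0))).toAlgebra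
  have tSAA : IsScalarTower S (𝒟.A 0) (fA Z 0) := IsScalarTower.of_algebraMap_eq' rfl
  have tRSA : IsScalarTower R S (fA Z 0) := by
    refine IsScalarTower.of_algebraMap_eq fun x => ?_
    rw [IsScalarTower.algebraMap_apply S (𝒟.A 0) (fA Z 0),
      ← IsScalarTower.algebraMap_apply R S (𝒟.A 0), ← IsScalarTower.algebraMap_apply R (𝒟.A 0)]
  have uS : IsUnit (algebraMap S (fA Z 0) hX) := by
    rw [IsScalarTower.algebraMap_apply S (𝒟.A 0) (fA Z 0), hZX]
    exact IsLocalization.Away.algebraMap_isUnit (Z.a 0)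
  let aS'A : Algebra (Localization.Away hX) (fA Z 0) := (IsLocalization.Away.lift hX uS).toAlgebra
  have tSSA : IsScalarTower S (Localization.Away hX) (fA Z 0) :=
    IsScalarTower.of_algebraMap_eq fun r => (IsLocalization.Away.lift_eq hX uS r).symm
  have tRSA' : IsScalarTower (Localization.Away Z.g) (Localization.Away hX) (fA Z 0) := by
    refine IsScalarTower.of_algebraMap_eq' ?_
    refine IsLocalization.ringHom_ext (Submonoid.powers Z.g) ?_
    ext r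
    simp only [RingHom.comp_apply]
    rw [← IsScalarTower.algebraMap_apply R (Localization.Away Z.g) (Localization.Away hX),
      IsScalarTower.algebraMap_apply R S (Localization.Away hX),
      ← IsScalarTower.algebraMap_apply S (Localization.Away hX) (fA Z 0),
      ← IsScalarTower.algebraMap_apply R S (fA Z 0)]
    exact (IsScalarTower.algebraMap_apply R (Rg Z) (fA Z 0) r).symm
  -- the modules
  let mS' : Module (Localization.Away hX) (fM Z 0) :=
    Module.compHom _ (algebraMap (Localization.Away hX) (fA Z 0))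
  have tS'M : IsScalarTower (Localization.Away hX) (fA Z 0) (fM Z 0) :=
    IsScalarTower.of_algebraMap_smul fun _ _ => rfl
  let mS : Module S (fM Z 0) := Module.compHom _ (algebraMap S (fA Z 0))
  have tSM : IsScalarTower S (fA Z 0) (fM Z 0) :=
    IsScalarTower.of_algebraMap_smul fun _ _ => rfl
  let mA0 : Module (𝒟.A 0) (fM Z 0) := modA0 Z o
  have tAM : IsScalarTower (𝒟.A 0) (fA Z 0) (fM Z 0) :=
    IsScalarTower.of_algebraMap_smul fun _ _ => rfl
  have tSAM : IsScalarTower S (𝒟.A 0) (fM Z 0) := IsScalarTower.of_algebraMap_smul fun r m => by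
    rw [← algebraMap_smul (fA Z 0) (algebraMap S (𝒟.A 0) r) m,
      ← IsScalarTower.algebraMap_apply, algebraMap_smul]
  have tSS'M : IsScalarTower S (Localization.Away hX) (fM Z 0) :=
    IsScalarTower.of_algebraMap_smul fun r m => by
      rw [← algebraMap_smul (fA Z 0) (algebraMap S (Localization.Away hX) r) m,
        ← IsScalarTower.algebraMap_apply, algebraMap_smul]
  have lS : IsLocalization.Away (algebraMap S (𝒟.A 0) hX) (fA Z 0) := by rw [hZX]; exact l0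
  have poSA : Algebra.IsPushout S (𝒟.A 0) (Localization.Away hX) (fA Z 0) := isPushout_away hX
  let fg0 : 𝒟.M 0 →ₗ[𝒟.A 0] fM Z 0 := fg Z o
  have hfg0 : IsBaseChange (fA Z 0) fg0 := isBaseChange_fg Z o
  have hgS : IsBaseChange (Localization.Away hX) (fg0.restrictScalars S) :=
    isBaseChange_of_isPushout fg0 hfg0
  let f := LocalizedModule.mkLinearMap (Submonoid.powers hX) N
  have hf : IsBaseChange (Localization.Away hX) f :=
    IsLocalizedModule.isBaseChange (Submonoid.powers hX) _ _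
  let 𝒟' : FlatCA.CompleteDevissage (Localization.Away Z.g) (Localization.Away hX)
      (LocalizedModule (Submonoid.powers hX) N) (Ideal.map (algebraMap R (Localization.Away Z.g)) p) :=
    { n := 𝒟.n
      pos := 𝒟.pos
      A := fA Z
      B := fB Z
      M := fM Z
      r := 𝒟.r
      aSA := aS'A
      tRSA := tRSA'
      mSM := mS'
      tSAM := tS'M
      hp := irr_isPrime hirr _
      α := fα Z
      surjSA := surjective_of_isPushout S (𝒟.A 0) (Localization.Away hX) (fA Z 0) 𝒟.surjSA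
      fpSA := have := 𝒟.fpSA
        finitePresentation_of_isPushout S (𝒟.A 0) (Localization.Away hX) (fA Z 0)
      surjBA' := fun i hi => (next_f Z ⟨i, Nat.lt_of_succ_lt hi⟩ hi).1
      fpBA' := fun i hi => (next_f Z ⟨i, Nat.lt_of_succ_lt hi⟩ hi).2
      finiteBA := fun i hi => finiteBA_f Z ⟨i, hi⟩
      smooth := fun i hi => smooth_fB Z ⟨i, hi⟩
      geomIrred := fun i hi => irr_fB hirr ⟨i, hi⟩
      finiteM := fun i hi => finiteM_f Z ⟨i, hi⟩
      isoN := hf.equiv.symm ≪≫ₗ (LinearEquiv.baseChange S (Localization.Away hX) _ _ 𝒟.isoN) ≪≫ₗ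
        hgS.equiv
      isoCoker := fun i hi => (exists_isoCoker Z ⟨i, Nat.lt_of_succ_lt hi⟩ hi).some
      fibreIso := fun i hi =>
        have := irr_isPrime hirr (Ideal.map (algebraMap R (Localization.Away Z.g)) p) i
        fibreIso_fα Z ⟨i, hi⟩
      cokerLast := fα_surjective Z ⟨𝒟.n - 1, Nat.sub_lt 𝒟.pos Nat.one_pos⟩ 𝒟.cokerLast }
  -- the points
  obtain ⟨qB', qA', key, ktail⟩ := exists_points (Z := Z) 𝒜 hg hW
  have jB : ∀ i, (qB' i).IsPrime := fun i => (ktail i).1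
  have jA : ∀ i, (qA' i).IsPrime := fun i => (ktail i).2.1
  have joB : ∀ i, (qB' i).LiesOver (p.map (algebraMap R (Rg Z))) := fun i => (ktail i).2.2.1
  have joA : ∀ i, (qA' i).LiesOver (qB' i) := fun i => (ktail i).2.2.2
  have k1 : ∀ i : Fin 𝒟.n, (qB' i).LiesOver (𝒜.qB i) := fun i => (key i).1
  have k2 : ∀ i : Fin 𝒟.n, (qA' i).LiesOver (𝒜.qA i) := fun i => (key i).2
  have hE : Algebra.Etale R (Rg Z) := etale_Rg Z
  let 𝒜' : FlatCA.CompleteDevissageAt (Localization.Away Z.g) (Localization.Away hX)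
      (LocalizedModule (Submonoid.powers hX) N) (Ideal.map (algebraMap R (Localization.Away Z.g)) p)
      (Ideal.map (algebraMap S (Localization.Away hX)) q) 𝒟' :=
    { qB := qB'
      qA := qA'
      hqB := jB
      hqA := jA
      overB := joB
      overA := joA
      pureTrans := fun i hi =>
        have h1 := k1 ⟨i, hi⟩
        pure_f Z ⟨i, hi⟩ (𝒜.qB i) (qB' i) (𝒜.pureTrans i hi)
      uniq := fun i hi Q _ hQ =>
        have h1 := k1 ⟨i, hi⟩
        have h2 := k2 ⟨i, hi⟩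
        uniq_f Z ⟨i, hi⟩ (𝒜.qB i) (𝒜.qA i) (𝒜.uniq i hi) (qB' i) (qA' i) Q hQ
      q0 := by
        refine eq_of_comap_eq (R := S) (R' := Localization.Away hX) (Submonoid.powers hX) ?_
        change Ideal.comap _ (Ideal.comap (algebraMap (Localization.Away hX) (fA Z 0)) (qA' 0)) = _
        rw [Ideal.comap_comap, ← IsScalarTower.algebraMap_eq S (Localization.Away hX) (fA Z 0),
          IsScalarTower.algebraMap_eq S (𝒟.A 0) (fA Z 0), ← Ideal.comap_comap]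
        have h2 : 𝒜.qA 0 = (qA' 0).comap (algebraMap (𝒟.A 0) (fA Z 0)) := (k2 o).over
        rw [← h2, 𝒜.q0]
        exact hq2.over
      qStep := fun i hi =>
        have h1 := k1 ⟨i, Nat.lt_of_succ_lt hi⟩
        step_f Z ⟨i, Nat.lt_of_succ_lt hi⟩ hi (𝒜.qB i) (𝒜.qA (i + 1)) (𝒜.qStep i hi) (qB' i)
          (qA' (i + 1)) (k2 ⟨i + 1, hi⟩).over
      d := 𝒜.d
      relDim := fun i hi => relDim_fB Z ⟨i, hi⟩ (𝒜.d i) (𝒜.relDim i hi)
      locDim := fun i hi =>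
        have h1 := k1 ⟨i, hi⟩
        locDim_f Z ⟨i, hi⟩ (𝒜.qB i) (qB' i) (𝒜.d i) (𝒜.locDim i hi) }
  refine ⟨aAX, tAX, mAN, tAN, hp1, hq1, 𝒟', 𝒜', fun i => algA Z i,
    fun i => (inferInstance : Algebra R (fA Z i)),
    fun i => (inferInstance : IsScalarTower R (Rg Z) (fA Z i)),
    fun i => towRA Z i,
    fun i => algB Z i,
    fun i => (inferInstance : Algebra R (fB Z i)),
    fun i => (inferInstance : IsScalarTower R (Rg Z) (fB Z i)),
    fun i => towRB Z i,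
    fun i => (inferInstance : Algebra (𝒟.B i) (fA Z i)),
    fun i => (inferInstance : IsScalarTower (𝒟.B i) (𝒟.A i) (fA Z i)),
    fun i => (inferInstance : IsScalarTower (𝒟.B i) (fB Z i) (fA Z i)),
    fun i => (inferInstance : Algebra (𝒟.B i) (fA Z (i + 1))),
    fun i => (inferInstance : IsScalarTower (𝒟.B i) (fB Z i) (fA Z (i + 1))),
    aSA, tSSA,
    fun i => modA0 Z i,
    fun i => (inferInstance : IsScalarTower (𝒟.A i) (fA Z i) (fM Z i)),
    fun i => fg Z i, rfl, rfl, rfl, tSAA, ?_, ?_, ?_⟩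
  · intro x
    have h1 : hf.equiv.symm (f x) = (1 : Localization.Away hX) ⊗ₜ[S] x := by
      rw [LinearEquiv.symm_apply_eq, hf.equiv_tmul, one_smul]
    change hgS.equiv (LinearEquiv.baseChange S (Localization.Away hX) _ _ 𝒟.isoN (hf.equiv.symm (f x))) = _
    rw [h1]
    change hgS.equiv ((1 : Localization.Away hX) ⊗ₜ[S] (𝒟.isoN x)) = _
    rw [hgS.equiv_tmul, one_smul]
    rfl
  · intro i h
    exact tower_next Z i h
  · intro i
    exact ⟨ha i, hb i, isLocalization_fA Z i, isLocalization_fB Z i, isLocalizedModule_fg Z i,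
      k2 i, k1 i, range_fα Z i⟩

end K262.ShrAsm
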