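import Groth.Agent.FlatMor.K261.CDevMod

/-!
# Standard shrinkings of complete dévissages: the families of rings

The pieces with index below the length are localizations, the tail repeats the last smooth algebra.
-/

set_option autoImplicit false
universe u

namespace K262.ShrFam

open FlatCA TensorProduct

/-- lifting to the localization, linearly over the localized base. -/
noncomputable def awayLift {R B X : Type u} [CommRing R] [CommRing B] [CommRing X] (g : R) (b : B)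
    [Algebra R B] [Algebra R X] (f : B →ₐ[R] X) (hf : IsUnit (f b)) [Algebra (Localization.Away g) X]
    [IsScalarTower R (Localization.Away g) X] [Algebra (Localization.Away g) (Localization.Away b)]
    [IsScalarTower R (Localization.Away g) (Localization.Away b)] :
    Localization.Away b →ₐ[Localization.Away g] X :=
  { IsLocalization.Away.lift (S := Localization.Away b) b (g := f.toRingHom) hf with
    commutes' := by
      intro r
      have h : (IsLocalization.Away.lift (S := Localization.Away b) b (g := f.toRingHom) hf).comp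
          (algebraMap (Localization.Away g) (Localization.Away b)) = algebraMap (Localization.Away g) X := by
        refine IsLocalization.ringHom_ext (Submonoid.powers g) ?_
        ext x
        simp only [RingHom.comp_apply]
        rw [← IsScalarTower.algebraMap_apply R (Localization.Away g) X,
          ← IsScalarTower.algebraMap_apply R (Localization.Away g) (Localization.Away b),
          IsScalarTower.algebraMap_apply R B (Localization.Away b), IsLocalization.Away.lift_eq]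
        exact f.commutes x
      exact congr($h r) }

theorem awayLift_algebraMap {R B X : Type u} [CommRing R] [CommRing B] [CommRing X] (g : R) (b : B)
    [Algebra R B] [Algebra R X] (f : B →ₐ[R] X) (hf : IsUnit (f b)) [Algebra (Localization.Away g) X]
    [IsScalarTower R (Localization.Away g) X] [Algebra (Localization.Away g) (Localization.Away b)]
    [IsScalarTower R (Localization.Away g) (Localization.Away b)] (x : B) :
    awayLift g b f hf (algebraMap B (Localization.Away b) x) = f x :=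
  IsLocalization.Away.lift_eq (S := Localization.Away b) b (g := f.toRingHom) hf x

variable {R S : Type u} [CommRing R] [CommRing S] [Algebra R S] {N : Type u} [AddCommGroup N]
  [Module S N] {p : Ideal R} [p.IsPrime]

/-- The functions defining a standard shrinking. -/
structure ShrData (𝒟 : CompleteDevissage R S N p) where
  /-- the function on the base -/
  g : R
  /-- the functions on the smooth algebras -/
  W : ∀ i, 𝒟.B i
  hm : ∀ i, i + 1 < 𝒟.n → algebraMap (𝒟.B i) (𝒟.A (i + 1)) (W i) =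
    algebraMap (𝒟.B (i + 1)) (𝒟.A (i + 1)) (W (i + 1))

variable {𝒟 : CompleteDevissage R S N p} (Z : ShrData 𝒟)

/-- the functions on the smooth algebras -/
def ShrData.b (i : ℕ) : 𝒟.B i := Z.W i * algebraMap R (𝒟.B i) Z.g

/-- the functions on the algebras carrying the modules -/
def ShrData.a (i : ℕ) : 𝒟.A i := algebraMap (𝒟.B i) (𝒟.A i) (Z.b i)

theorem map_b (i : ℕ) (hi : i + 1 < 𝒟.n) :
    algebraMap (𝒟.B i) (𝒟.A (i + 1)) (Z.b i) = Z.a (i + 1) := by
  rw [ShrData.a, ShrData.b, ShrData.b, map_mul, map_mul, Z.hm i hi,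
    ← IsScalarTower.algebraMap_apply R (𝒟.B i) (𝒟.A (i + 1)),
    ← IsScalarTower.algebraMap_apply R (𝒟.B (i + 1)) (𝒟.A (i + 1))]

/-- the localized base -/
abbrev Rg : Type u := Localization.Away Z.g

/-- the localized smooth algebras -/
abbrev LB (i : ℕ) : Type u := Localization.Away (Z.b i)

/-- the localized algebras -/
abbrev LA (i : ℕ) : Type u := Localization.Away (Z.a i)

/-- the tail -/
abbrev T : Type u := LB Z (𝒟.n - 1)

theorem isUnit_LB (i : ℕ) : IsUnit (algebraMap R (LB Z i) Z.g) := by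
  rw [IsScalarTower.algebraMap_apply R (𝒟.B i) (LB Z i)]
  exact isUnit_of_dvd_unit (map_dvd (algebraMap (𝒟.B i) (LB Z i)) (dvd_mul_left _ _))
    (IsLocalization.Away.algebraMap_isUnit (Z.b i))

theorem isUnit_LA (i : ℕ) : IsUnit (algebraMap R (LA Z i) Z.g) := by
  rw [IsScalarTower.algebraMap_apply R (𝒟.A i) (LA Z i)]
  refine isUnit_of_dvd_unit (map_dvd (algebraMap (𝒟.A i) (LA Z i)) ?_)
    (IsLocalization.Away.algebraMap_isUnit (Z.a i))
  rw [ShrData.a, ShrData.b, map_mul, ← IsScalarTower.algebraMap_apply R (𝒟.B i) (𝒟.A i)]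
  exact dvd_mul_left _ _

noncomputable instance (i : ℕ) : Algebra (Rg Z) (LB Z i) :=
  (IsLocalization.Away.lift Z.g (isUnit_LB Z i)).toAlgebra

noncomputable instance (i : ℕ) : Algebra (Rg Z) (LA Z i) :=
  (IsLocalization.Away.lift Z.g (isUnit_LA Z i)).toAlgebra

instance (i : ℕ) : IsScalarTower R (Rg Z) (LB Z i) :=
  IsScalarTower.of_algebraMap_eq fun r => (IsLocalization.Away.lift_eq Z.g (isUnit_LB Z i) r).symm

instance (i : ℕ) : IsScalarTower R (Rg Z) (LA Z i) :=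
  IsScalarTower.of_algebraMap_eq fun r => (IsLocalization.Away.lift_eq Z.g (isUnit_LA Z i) r).symm

/-- the finite maps -/
noncomputable def φ (i : ℕ) : LB Z i →ₐ[Rg Z] LA Z i :=
  awayLift Z.g (Z.b i) ((IsScalarTower.toAlgHom R (𝒟.A i) (LA Z i)).comp
    (IsScalarTower.toAlgHom R (𝒟.B i) (𝒟.A i))) (IsLocalization.Away.algebraMap_isUnit (Z.a i))

theorem φ_algebraMap (i : ℕ) (x : 𝒟.B i) : φ Z i (algebraMap (𝒟.B i) (LB Z i) x) =
    algebraMap (𝒟.A i) (LA Z i) (algebraMap (𝒟.B i) (𝒟.A i) x) :=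
  awayLift_algebraMap _ _ _ _ x

/-- the surjections -/
noncomputable def ψ (i : ℕ) (hi : i + 1 < 𝒟.n) : LB Z i →ₐ[Rg Z] LA Z (i + 1) :=
  awayLift Z.g (Z.b i) ((IsScalarTower.toAlgHom R (𝒟.A (i + 1)) (LA Z (i + 1))).comp
    (IsScalarTower.toAlgHom R (𝒟.B i) (𝒟.A (i + 1)))) (by
      change IsUnit (algebraMap (𝒟.A (i + 1)) (LA Z (i + 1))
        (algebraMap (𝒟.B i) (𝒟.A (i + 1)) (Z.b i)))
      rw [map_b Z i hi]
      exact IsLocalization.Away.algebraMap_isUnit (Z.a (i + 1)))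

theorem ψ_algebraMap (i : ℕ) (hi : i + 1 < 𝒟.n) (x : 𝒟.B i) :
    ψ Z i hi (algebraMap (𝒟.B i) (LB Z i) x) =
    algebraMap (𝒟.A (i + 1)) (LA Z (i + 1)) (algebraMap (𝒟.B i) (𝒟.A (i + 1)) x) :=
  awayLift_algebraMap _ _ _ _ x

theorem exists_chi (i : ℕ) (h : i < 𝒟.n) (h' : ¬ i + 1 < 𝒟.n) :
    Nonempty (LB Z i →ₐ[Rg Z] T Z) := by
  obtain rfl : i = 𝒟.n - 1 := by omega
  exact ⟨AlgHom.id _ _⟩

/-- the rings carrying the modules -/
def fA (i : ℕ) : Type u := (PLift (i < 𝒟.n) → LA Z i) × (PLift (¬ i < 𝒟.n) → T Z)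

/-- the smooth algebras -/
def fB (i : ℕ) : Type u := (PLift (i < 𝒟.n) → LB Z i) × (PLift (¬ i < 𝒟.n) → T Z)

noncomputable instance (i : ℕ) : CommRing (fA Z i) :=
  inferInstanceAs (CommRing ((PLift (i < 𝒟.n) → LA Z i) × (PLift (¬ i < 𝒟.n) → T Z)))

noncomputable instance (i : ℕ) : CommRing (fB Z i) :=
  inferInstanceAs (CommRing ((PLift (i < 𝒟.n) → LB Z i) × (PLift (¬ i < 𝒟.n) → T Z)))

noncomputable instance (i : ℕ) : Algebra (Rg Z) (fA Z i) :=
  inferInstanceAs (Algebra (Rg Z) ((PLift (i < 𝒟.n) → LA Z i) × (PLift (¬ i < 𝒟.n) → T Z)))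

noncomputable instance (i : ℕ) : Algebra (Rg Z) (fB Z i) :=
  inferInstanceAs (Algebra (Rg Z) ((PLift (i < 𝒟.n) → LB Z i) × (PLift (¬ i < 𝒟.n) → T Z)))

noncomputable instance (i : ℕ) : Algebra R (fA Z i) :=
  inferInstanceAs (Algebra R ((PLift (i < 𝒟.n) → LA Z i) × (PLift (¬ i < 𝒟.n) → T Z)))

noncomputable instance (i : ℕ) : Algebra R (fB Z i) :=
  inferInstanceAs (Algebra R ((PLift (i < 𝒟.n) → LB Z i) × (PLift (¬ i < 𝒟.n) → T Z)))

instance (i : ℕ) : IsScalarTower R (Rg Z) (fA Z i) :=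
  inferInstanceAs (IsScalarTower R (Rg Z) ((PLift (i < 𝒟.n) → LA Z i) × (PLift (¬ i < 𝒟.n) → T Z)))

instance (i : ℕ) : IsScalarTower R (Rg Z) (fB Z i) :=
  inferInstanceAs (IsScalarTower R (Rg Z) ((PLift (i < 𝒟.n) → LB Z i) × (PLift (¬ i < 𝒟.n) → T Z)))

/-- the projections -/
noncomputable def prA (i : ℕ) (h : i < 𝒟.n) : fA Z i →ₐ[Rg Z] LA Z i :=
  (Pi.evalAlgHom (Rg Z) (fun _ : PLift (i < 𝒟.n) => LA Z i) ⟨h⟩).comp
    (AlgHom.fst (Rg Z) (PLift (i < 𝒟.n) → LA Z i) (PLift (¬ i < 𝒟.n) → T Z))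

/-- the projections -/
noncomputable def prB (i : ℕ) (h : i < 𝒟.n) : fB Z i →ₐ[Rg Z] LB Z i :=
  (Pi.evalAlgHom (Rg Z) (fun _ : PLift (i < 𝒟.n) => LB Z i) ⟨h⟩).comp
    (AlgHom.fst (Rg Z) (PLift (i < 𝒟.n) → LB Z i) (PLift (¬ i < 𝒟.n) → T Z))

/-- the projections on the tail -/
noncomputable def prA' (i : ℕ) (h : ¬ i < 𝒟.n) : fA Z i →ₐ[Rg Z] T Z :=
  (Pi.evalAlgHom (Rg Z) (fun _ : PLift (¬ i < 𝒟.n) => T Z) ⟨h⟩).comp
    (AlgHom.snd (Rg Z) (PLift (i < 𝒟.n) → LA Z i) (PLift (¬ i < 𝒟.n) → T Z))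

/-- the projections on the tail -/
noncomputable def prB' (i : ℕ) (h : ¬ i < 𝒟.n) : fB Z i →ₐ[Rg Z] T Z :=
  (Pi.evalAlgHom (Rg Z) (fun _ : PLift (¬ i < 𝒟.n) => T Z) ⟨h⟩).comp
    (AlgHom.snd (Rg Z) (PLift (i < 𝒟.n) → LB Z i) (PLift (¬ i < 𝒟.n) → T Z))

theorem prA_bijective (i : ℕ) (h : i < 𝒟.n) : Function.Bijective (prA Z i h) :=
  ⟨fun _ _ hxy => Prod.ext (funext fun _ => hxy) (funext fun h' => absurd h h'.down),
    fun y => ⟨(fun _ => y, fun _ => 0), rfl⟩⟩

theorem prB_bijective (i : ℕ) (h : i < 𝒟.n) : Function.Bijective (prB Z i h) :=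
  ⟨fun _ _ hxy => Prod.ext (funext fun _ => hxy) (funext fun h' => absurd h h'.down),
    fun y => ⟨(fun _ => y, fun _ => 0), rfl⟩⟩

theorem prA'_bijective (i : ℕ) (h : ¬ i < 𝒟.n) : Function.Bijective (prA' Z i h) :=
  ⟨fun _ _ hxy => Prod.ext (funext fun h' => absurd h'.down h) (funext fun _ => hxy),
    fun y => ⟨(fun _ => 0, fun _ => y), rfl⟩⟩

theorem prB'_bijective (i : ℕ) (h : ¬ i < 𝒟.n) : Function.Bijective (prB' Z i h) :=
  ⟨fun _ _ hxy => Prod.ext (funext fun h' => absurd h'.down h) (funext fun _ => hxy),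
    fun y => ⟨(fun _ => 0, fun _ => y), rfl⟩⟩

/-- the pieces below the length -/
noncomputable def eA (i : ℕ) (h : i < 𝒟.n) : fA Z i ≃ₐ[Rg Z] LA Z i :=
  AlgEquiv.ofBijective (prA Z i h) (prA_bijective Z i h)

/-- the pieces below the length -/
noncomputable def eB (i : ℕ) (h : i < 𝒟.n) : fB Z i ≃ₐ[Rg Z] LB Z i :=
  AlgEquiv.ofBijective (prB Z i h) (prB_bijective Z i h)

/-- the finite maps -/
noncomputable def fBA (i : ℕ) : fB Z i →ₐ[Rg Z] fA Z i :=
  AlgHom.prod (R := Rg Z) (B := PLift (i < 𝒟.n) → LA Z i) (C := PLift (¬ i < 𝒟.n) → T Z)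
    (AlgHom.pi fun h => (φ Z i).comp (prB Z i h.down)) (AlgHom.pi fun h => prB' Z i h.down)

open Classical in
/-- the maps to the next algebra -/
noncomputable def fBA' (i : ℕ) : fB Z i →ₐ[Rg Z] fA Z (i + 1) :=
  AlgHom.prod (R := Rg Z) (B := PLift (i + 1 < 𝒟.n) → LA Z (i + 1))
    (C := PLift (¬ i + 1 < 𝒟.n) → T Z)
    (AlgHom.pi fun h => (ψ Z i h.down).comp (prB Z i (lt_of_le_of_lt (Nat.le_succ i) h.down)))
    (AlgHom.pi fun h => if hi : i < 𝒟.n then (exists_chi Z i hi h.down).some.comp (prB Z i hi)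
      else prB' Z i hi)

noncomputable instance (i : ℕ) : Algebra (fB Z i) (fA Z i) := (fBA Z i).toRingHom.toAlgebra

noncomputable instance (i : ℕ) : Algebra (fB Z i) (fA Z (i + 1)) := (fBA' Z i).toRingHom.toAlgebra

instance (i : ℕ) : IsScalarTower (Rg Z) (fB Z i) (fA Z i) :=
  IsScalarTower.of_algebraMap_eq fun r => ((fBA Z i).commutes r).symm

instance (i : ℕ) : IsScalarTower (Rg Z) (fB Z i) (fA Z (i + 1)) :=
  IsScalarTower.of_algebraMap_eq fun r => ((fBA' Z i).commutes r).symm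

theorem prA_fBA (i : ℕ) (h : i < 𝒟.n) (x : fB Z i) :
    prA Z i h (algebraMap (fB Z i) (fA Z i) x) = φ Z i (prB Z i h x) := rfl

theorem prA_fBA' (i : ℕ) (h : i + 1 < 𝒟.n) (x : fB Z i) :
    prA Z (i + 1) h (algebraMap (fB Z i) (fA Z (i + 1)) x) =
      ψ Z i h (prB Z i (lt_of_le_of_lt (Nat.le_succ i) h) x) := rfl

theorem prA'_fBA (i : ℕ) (h : ¬ i < 𝒟.n) (x : fB Z i) :
    prA' Z i h (algebraMap (fB Z i) (fA Z i) x) = prB' Z i h x := rfl

/-- `A i → fA i` for `i` below the length -/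
noncomputable instance algA (i : Fin 𝒟.n) : Algebra (𝒟.A i) (fA Z i) :=
  (RingHom.comp ((eA Z i i.2).symm : LA Z i →+* fA Z i) (algebraMap (𝒟.A i) (LA Z i))).toAlgebra

/-- `B i → fB i` for `i` below the length -/
noncomputable instance algB (i : Fin 𝒟.n) : Algebra (𝒟.B i) (fB Z i) :=
  (RingHom.comp ((eB Z i i.2).symm : LB Z i →+* fB Z i) (algebraMap (𝒟.B i) (LB Z i))).toAlgebra

theorem prA_algebraMap (i : Fin 𝒟.n) (x : 𝒟.A i) :
    prA Z i i.2 (algebraMap (𝒟.A i) (fA Z i) x) = algebraMap (𝒟.A i) (LA Z i) x :=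
  (eA Z i i.2).apply_symm_apply _

theorem prB_algebraMap (i : Fin 𝒟.n) (x : 𝒟.B i) :
    prB Z i i.2 (algebraMap (𝒟.B i) (fB Z i) x) = algebraMap (𝒟.B i) (LB Z i) x :=
  (eB Z i i.2).apply_symm_apply _

theorem prA_algebraMap_R (i : ℕ) (h : i < 𝒟.n) (x : R) :
    prA Z i h (algebraMap R (fA Z i) x) = algebraMap R (LA Z i) x := rfl

theorem prB_algebraMap_R (i : ℕ) (h : i < 𝒟.n) (x : R) :
    prB Z i h (algebraMap R (fB Z i) x) = algebraMap R (LB Z i) x := rfl

instance towRA (i : Fin 𝒟.n) : IsScalarTower R (𝒟.A i) (fA Z i) :=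
  IsScalarTower.of_algebraMap_eq fun x => (prA_bijective Z i i.2).1 (by
    rw [prA_algebraMap, prA_algebraMap_R, ← IsScalarTower.algebraMap_apply])

instance towRB (i : Fin 𝒟.n) : IsScalarTower R (𝒟.B i) (fB Z i) :=
  IsScalarTower.of_algebraMap_eq fun x => (prB_bijective Z i i.2).1 (by
    rw [prB_algebraMap, prB_algebraMap_R, ← IsScalarTower.algebraMap_apply])

noncomputable instance (i : Fin 𝒟.n) : Algebra (𝒟.B i) (fA Z i) :=
  ((algebraMap (𝒟.A i) (fA Z i)).comp (algebraMap (𝒟.B i) (𝒟.A i))).toAlgebra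

noncomputable instance (i : Fin 𝒟.n) : Algebra (𝒟.B i) (fA Z (i + 1)) :=
  ((algebraMap (fB Z i) (fA Z (i + 1))).comp (algebraMap (𝒟.B i) (fB Z i))).toAlgebra

instance (i : Fin 𝒟.n) : IsScalarTower (𝒟.B i) (𝒟.A i) (fA Z i) :=
  IsScalarTower.of_algebraMap_eq' rfl

instance (i : Fin 𝒟.n) : IsScalarTower (𝒟.B i) (fB Z i) (fA Z (i + 1)) :=
  IsScalarTower.of_algebraMap_eq' rfl

instance (i : Fin 𝒟.n) : IsScalarTower (𝒟.B i) (fB Z i) (fA Z i) :=
  IsScalarTower.of_algebraMap_eq fun x => (prA_bijective Z i i.2).1 (by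
    rw [prA_fBA, prB_algebraMap, φ_algebraMap, IsScalarTower.algebraMap_apply (𝒟.B i) (𝒟.A i) (fA Z i),
      prA_algebraMap])

/-- the tower at the next step -/
theorem tower_next (i : Fin 𝒟.n) (h : (i : ℕ) + 1 < 𝒟.n) :
    letI : Algebra (𝒟.A (i + 1)) (fA Z (i + 1)) := algA Z ⟨i + 1, h⟩
    IsScalarTower (𝒟.B i) (𝒟.A (i + 1)) (fA Z (i + 1)) := by
  let i1 : Algebra (𝒟.A (i + 1)) (fA Z (i + 1)) := algA Z ⟨i + 1, h⟩
  refine IsScalarTower.of_algebraMap_eq fun x => (prA_bijective Z (i + 1) h).1 ?_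
  rw [IsScalarTower.algebraMap_apply (𝒟.B i) (fB Z i) (fA Z (i + 1)), prA_fBA', prB_algebraMap,
    ψ_algebraMap]
  exact (prA_algebraMap Z ⟨i + 1, h⟩ _).symm

theorem isLocalization_fA (i : Fin 𝒟.n) : IsLocalization.Away (Z.a i) (fA Z i) := by
  have h : IsLocalization.Away (Z.a i) (LA Z i) := inferInstance
  let e : LA Z i ≃ₐ[𝒟.A i] fA Z i := AlgEquiv.ofRingEquiv (f := (eA Z i i.2).symm.toRingEquiv)
    (fun x => rfl)
  exact IsLocalization.isLocalization_of_algEquiv _ e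

theorem isLocalization_fB (i : Fin 𝒟.n) : IsLocalization.Away (Z.b i) (fB Z i) := by
  have h : IsLocalization.Away (Z.b i) (LB Z i) := inferInstance
  let e : LB Z i ≃ₐ[𝒟.B i] fB Z i := AlgEquiv.ofRingEquiv (f := (eB Z i i.2).symm.toRingEquiv)
    (fun x => rfl)
  exact IsLocalization.isLocalization_of_algEquiv _ e

end K262.ShrFam
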