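import Groth.Agent.FlatMor.K262.ShrFam
import Groth.Agent.FlatMor.K261.ShrinkCore

/-!
# Standard shrinkings of complete dévissages: the modules and maps
-/

set_option autoImplicit false
universe u

namespace K262.ShrMod

open FlatCA TensorProduct K262.ShrFam
open Groth.Agent.Flat2B.PointBC Groth.Agent.Flat2B.FibreBC Groth.Agent.Flat2B.BCTools
open Groth.Agent.Flat2B.StepBC

variable {R S : Type u} [CommRing R] [CommRing S] [Algebra R S] {N : Type u} [AddCommGroup N]
  [Module S N] {p : Ideal R} [p.IsPrime] {𝒟 : CompleteDevissage R S N p} (Z : ShrData 𝒟)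

/-- the localized modules -/
abbrev LM (i : ℕ) : Type u := LocalizedModule (Submonoid.powers (Z.a i)) (𝒟.M i)

/-- the modules -/
def fM (i : ℕ) : Type u := PLift (i < 𝒟.n) → LM Z i

noncomputable instance (i : ℕ) : AddCommGroup (fM Z i) :=
  inferInstanceAs (AddCommGroup (PLift (i < 𝒟.n) → LM Z i))

noncomputable instance modA (i : ℕ) : Module (fA Z i) (fM Z i) :=
  letI : Module (PLift (i < 𝒟.n) → LA Z i) (PLift (i < 𝒟.n) → LM Z i) := inferInstance
  Module.compHom (PLift (i < 𝒟.n) → LM Z i)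
    (RingHom.fst (PLift (i < 𝒟.n) → LA Z i) (PLift (¬ i < 𝒟.n) → T Z))

theorem smul_apply (i : ℕ) (r : fA Z i) (m : fM Z i) (h : PLift (i < 𝒟.n)) :
    (r • m) h = prA Z i h.down r • m h := rfl

noncomputable instance modB (i : ℕ) : Module (fB Z i) (fM Z i) :=
  Module.compHom _ (algebraMap (fB Z i) (fA Z i))

instance (i : ℕ) : IsScalarTower (fB Z i) (fA Z i) (fM Z i) :=
  IsScalarTower.of_algebraMap_smul fun _ _ => rfl

noncomputable instance modB' (i : ℕ) : Module (fB Z i) (fM Z (i + 1)) :=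
  Module.compHom _ (algebraMap (fB Z i) (fA Z (i + 1)))

instance (i : ℕ) : IsScalarTower (fB Z i) (fA Z (i + 1)) (fM Z (i + 1)) :=
  IsScalarTower.of_algebraMap_smul fun _ _ => rfl

noncomputable instance modRg (i : ℕ) : Module (Rg Z) (fM Z i) :=
  Module.compHom _ (algebraMap (Rg Z) (fA Z i))

instance (i : ℕ) : IsScalarTower (Rg Z) (fA Z i) (fM Z i) :=
  IsScalarTower.of_algebraMap_smul fun _ _ => rfl

instance (i : ℕ) : IsScalarTower (Rg Z) (fB Z i) (fM Z i) :=
  IsScalarTower.of_algebraMap_smul fun r m => by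
    rw [← algebraMap_smul (fA Z i) (algebraMap (Rg Z) (fB Z i) r) m,
      ← IsScalarTower.algebraMap_apply, algebraMap_smul]

noncomputable instance modA0 (i : Fin 𝒟.n) : Module (𝒟.A i) (fM Z i) :=
  Module.compHom _ (algebraMap (𝒟.A i) (fA Z i))

instance (i : Fin 𝒟.n) : IsScalarTower (𝒟.A i) (fA Z i) (fM Z i) :=
  IsScalarTower.of_algebraMap_smul fun _ _ => rfl

noncomputable instance modB0 (i : Fin 𝒟.n) : Module (𝒟.B i) (fM Z i) :=
  Module.compHom _ (algebraMap (𝒟.B i) (fA Z i))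

instance (i : Fin 𝒟.n) : IsScalarTower (𝒟.B i) (fA Z i) (fM Z i) :=
  IsScalarTower.of_algebraMap_smul fun _ _ => rfl

instance (i : Fin 𝒟.n) : IsScalarTower (𝒟.B i) (𝒟.A i) (fM Z i) :=
  IsScalarTower.of_algebraMap_smul fun r m => by
    rw [← algebraMap_smul (fA Z i) (algebraMap (𝒟.B i) (𝒟.A i) r) m,
      ← IsScalarTower.algebraMap_apply, algebraMap_smul]

instance (i : Fin 𝒟.n) : IsScalarTower (𝒟.B i) (fB Z i) (fM Z i) :=
  IsScalarTower.of_algebraMap_smul fun r m => by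
    rw [← algebraMap_smul (fA Z i) (algebraMap (𝒟.B i) (fB Z i) r) m,
      ← IsScalarTower.algebraMap_apply, algebraMap_smul]

/-- the localization maps -/
noncomputable def gfun (i : ℕ) : 𝒟.M i →+ fM Z i where
  toFun m := fun _ => LocalizedModule.mkLinearMap (Submonoid.powers (Z.a i)) (𝒟.M i) m
  map_zero' := funext fun _ => map_zero _
  map_add' _ _ := funext fun _ => map_add _ _ _

/-- the localization maps -/
noncomputable def fg (i : Fin 𝒟.n) : 𝒟.M i →ₗ[𝒟.A i] fM Z i where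
  toFun m := gfun Z i m
  map_add' _ _ := map_add _ _ _
  map_smul' r m := funext fun h => by
    change LocalizedModule.mkLinearMap (Submonoid.powers (Z.a i)) (𝒟.M i) (r • m) =
      prA Z i h.down (algebraMap (𝒟.A i) (fA Z i) r) •
        LocalizedModule.mkLinearMap (Submonoid.powers (Z.a i)) (𝒟.M i) m
    rw [prA_algebraMap, map_smul, algebraMap_smul]

instance isLocalizedModule_fg (i : Fin 𝒟.n) :
    IsLocalizedModule (Submonoid.powers (Z.a i)) (fg Z i) := by
  let e : LM Z i ≃ₗ[𝒟.A i] fM Z i :=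
    { toFun := fun m _ => m
      map_add' := fun _ _ => rfl
      map_smul' := fun r m => funext fun h => by
        change r • m = prA Z i h.down (algebraMap (𝒟.A i) (fA Z i) r) • m
        rw [prA_algebraMap, algebraMap_smul]
      invFun := fun m => m ⟨i.2⟩
      left_inv := fun _ => rfl
      right_inv := fun _ => rfl }
  have h := IsLocalizedModule.of_linearEquiv (Submonoid.powers (Z.a i))
    (LocalizedModule.mkLinearMap (Submonoid.powers (Z.a i)) (𝒟.M i)) e
  exact h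

theorem isBaseChange_fg (i : Fin 𝒟.n) : IsBaseChange (fA Z i) (fg Z i) :=
  have := isLocalization_fA Z i
  IsLocalizedModule.isBaseChange (Submonoid.powers (Z.a i)) _ _

theorem poBA (i : Fin 𝒟.n) : Algebra.IsPushout (𝒟.B i) (𝒟.A i) (fB Z i) (fA Z i) :=
  have := isLocalization_fB Z i
  have : IsLocalization.Away (algebraMap (𝒟.B i) (𝒟.A i) (Z.b i)) (fA Z i) := isLocalization_fA Z i
  Groth.Agent.Flat2A.CDevLoc.isPushout_away (Z.b i)

theorem isBaseChange_fg_B (i : Fin 𝒟.n) :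
    IsBaseChange (fB Z i) ((fg Z i).restrictScalars (𝒟.B i)) :=
  have := poBA Z i
  isBaseChange_of_isPushout (fg Z i) (isBaseChange_fg Z i)

/-- the maps from finite free modules -/
noncomputable def fα (i : ℕ) : (Fin (𝒟.r i) → fB Z i) →ₗ[fB Z i] fM Z i :=
  Fintype.linearCombination (fB Z i) (fun j => gfun Z i (𝒟.α i (Pi.single j 1)))

/-- the base change map on the free modules -/
noncomputable def fβ (i : Fin 𝒟.n) : (Fin (𝒟.r i) → 𝒟.B i) →ₗ[𝒟.B i] (Fin (𝒟.r i) → fB Z i) :=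
  (Algebra.linearMap (𝒟.B i) (fB Z i)).compLeft (Fin (𝒟.r i))

theorem isBaseChange_fβ (i : Fin 𝒟.n) : IsBaseChange (fB Z i) (fβ Z i) :=
  IsBaseChange.finitePow (Fin (𝒟.r i)) (IsBaseChange.linearMap (𝒟.B i) (fB Z i))

theorem fα_fβ (i : Fin 𝒟.n) (x : Fin (𝒟.r i) → 𝒟.B i) :
    fα Z i (fβ Z i x) = fg Z i (𝒟.α i x) := by
  rw [fα, Fintype.linearCombination_apply]
  have h1 : 𝒟.α i x = ∑ j, x j • 𝒟.α i (Pi.single j 1) := by
    conv_lhs => rw [← Finset.univ_sum_single x]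
    rw [map_sum]
    refine Finset.sum_congr rfl fun j _ => ?_
    rw [← map_smul, ← Pi.single_smul, smul_eq_mul, mul_one]
  rw [h1, map_sum]
  refine Finset.sum_congr rfl fun j _ => ?_
  have h2 : fβ Z i x j = algebraMap (𝒟.B i) (fB Z i) (x j) := rfl
  rw [h2, algebraMap_smul]
  exact ((((fg Z i).restrictScalars (𝒟.B i)).map_smul (x j) _)).symm

theorem range_fα (i : Fin 𝒟.n) : LinearMap.range (fα Z i) =
    Submodule.span (fB Z i) ((fg Z i) '' (LinearMap.range (𝒟.α i) : Set (𝒟.M i))) := by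
  apply le_antisymm
  · rintro _ ⟨x, rfl⟩
    rw [fα, Fintype.linearCombination_apply]
    refine Submodule.sum_mem _ fun j _ => Submodule.smul_mem _ _ (Submodule.subset_span ?_)
    exact ⟨_, ⟨_, rfl⟩, rfl⟩
  · rw [Submodule.span_le]
    rintro _ ⟨_, ⟨x, rfl⟩, rfl⟩
    exact ⟨_, fα_fβ Z i x⟩

theorem fα_surjective (i : Fin 𝒟.n) (h : Function.Surjective (𝒟.α i)) :
    Function.Surjective (fα Z i) := by
  rw [← LinearMap.range_eq_top, range_fα, LinearMap.range_eq_top.2 h, eq_top_iff]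
  intro z _
  induction z using (isBaseChange_fg_B Z i).inductionOn with
  | zero => exact Submodule.zero_mem _
  | tmul m => exact Submodule.subset_span ⟨m, trivial, rfl⟩
  | smul s n hn => exact Submodule.smul_mem _ _ (hn trivial)
  | add a b ha hb => exact Submodule.add_mem _ (ha trivial) (hb trivial)

/-- base change of the cokernels -/
theorem exists_coker (i : Fin 𝒟.n) :
    ∃ w : (𝒟.M i ⧸ LinearMap.range (𝒟.α i)) →ₗ[𝒟.B i] (fM Z i ⧸ LinearMap.range (fα Z i)),
      IsBaseChange (fB Z i) w ∧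
      ∀ m, w (Submodule.Quotient.mk m) = Submodule.Quotient.mk (fg Z i m) :=
  isBaseChange_coker (𝒟.α i) (isBaseChange_fβ Z i) (isBaseChange_fg_B Z i) (fα Z i)
    (fα_fβ Z i)

/-- The identification of the cokernels. -/
theorem exists_isoCoker (i : Fin 𝒟.n) (hi : (i : ℕ) + 1 < 𝒟.n) :
    Nonempty ((fM Z i ⧸ LinearMap.range (fα Z i)) ≃ₗ[fB Z i] fM Z (i + 1)) := by
  obtain ⟨w, hw, -⟩ := exists_coker Z i
  let j : Fin 𝒟.n := ⟨i + 1, hi⟩
  let a1 : Algebra (𝒟.A (i + 1)) (fA Z (i + 1)) := algA Z j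
  have t1 : IsScalarTower (𝒟.B i) (𝒟.A (i + 1)) (fA Z (i + 1)) := tower_next Z i hi
  let m1 : Module (𝒟.A (i + 1)) (fM Z (i + 1)) := modA0 Z j
  have t2 : IsScalarTower (𝒟.A (i + 1)) (fA Z (i + 1)) (fM Z (i + 1)) :=
    IsScalarTower.of_algebraMap_smul fun _ _ => rfl
  let m2 : Module (𝒟.B i) (fM Z (i + 1)) := Module.compHom _ (algebraMap (𝒟.B i) (fA Z (i + 1)))
  have t3 : IsScalarTower (𝒟.B i) (fA Z (i + 1)) (fM Z (i + 1)) :=
    IsScalarTower.of_algebraMap_smul fun _ _ => rfl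
  have t4 : IsScalarTower (𝒟.B i) (𝒟.A (i + 1)) (fM Z (i + 1)) :=
    IsScalarTower.of_algebraMap_smul fun r m => by
      rw [← algebraMap_smul (fA Z (i + 1)) (algebraMap (𝒟.B i) (𝒟.A (i + 1)) r) m,
        ← IsScalarTower.algebraMap_apply, algebraMap_smul]
  have t5 : IsScalarTower (𝒟.B i) (fB Z i) (fM Z (i + 1)) :=
    IsScalarTower.of_algebraMap_smul fun r m => by
      rw [← algebraMap_smul (fA Z (i + 1)) (algebraMap (𝒟.B i) (fB Z i) r) m,
        ← IsScalarTower.algebraMap_apply, algebraMap_smul]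
  have l1 := isLocalization_fB Z i
  have l2 : IsLocalization.Away (algebraMap (𝒟.B i) (𝒟.A (i + 1)) (Z.b i)) (fA Z (i + 1)) := by
    rw [map_b Z i hi]
    exact isLocalization_fA Z j
  have po : Algebra.IsPushout (𝒟.B i) (𝒟.A (i + 1)) (fB Z i) (fA Z (i + 1)) :=
    Groth.Agent.Flat2A.CDevLoc.isPushout_away (Z.b i)
  let fg1 : 𝒟.M (i + 1) →ₗ[𝒟.A (i + 1)] fM Z (i + 1) := fg Z j
  have hfg1 : IsBaseChange (fA Z (i + 1)) fg1 := isBaseChange_fg Z j
  have h2 : IsBaseChange (fB Z i) (fg1.restrictScalars (𝒟.B i)) :=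
    isBaseChange_of_isPushout fg1 hfg1
  exact ⟨hw.equiv.symm ≪≫ₗ LinearEquiv.baseChange (𝒟.B i) (fB Z i) _ _ (𝒟.isoCoker i hi) ≪≫ₗ
    h2.equiv⟩

end K262.ShrMod
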