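import Groth.Agent.VarietyB.PullSec
import Groth.Agent.CohqB.FinHom
import Groth.Agent.CohqB.FiniteType2
import Groth.Agent.FormalA.PullbackQC
import Groth.Agent.Desc.FinLocFreeSections
import Groth.Agent.PerfA.QCohEpi
import Groth.Agent.PerfB.FlatPull
import Mathlib.RingTheory.LocalRing.Module
import Mathlib.RingTheory.Flat.FaithfullyFlat.Basic

/-!
# Locally split monomorphisms of modules: fibrewise criterion

`SplitAt u x` : the morphism `u` of modules is split mono on an open neighbourhood of `x`.
For `u : F → V` with `F` quasi-coherent of finite type and `V` finite locally free this holds iff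
`g^* u` is injective on global sections for one (equivalently any) `g : Spec K → X` with image `x`.
-/

set_option autoImplicit false
universe u

open CategoryTheory CategoryTheory.Limits AlgebraicGeometry Opposite TopologicalSpace TensorProduct

namespace Groth.Agent.FlatMor.K262.SplitFib

section Algebra

variable {A K M N : Type u} [CommRing A] [Field K] [Algebra A K] [AddCommGroup M] [Module A M]
  [AddCommGroup N] [Module A N]

/-- injectivity of a base change, computed with arbitrary base change maps. -/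
theorem injective_iff_of_isBaseChange (B : Type u) [CommRing B] [Algebra A B] {M' N' : Type u}
    [AddCommGroup M'] [Module A M'] [Module B M'] [IsScalarTower A B M']
    [AddCommGroup N'] [Module A N'] [Module B N'] [IsScalarTower A B N']
    {f : M →ₗ[A] M'} {g : N →ₗ[A] N'} (hf : IsBaseChange B f) (hg : IsBaseChange B g)
    (u : M →ₗ[A] N) (l : M' →ₗ[B] N') (h : ∀ m, l (f m) = g (u m)) :
    Function.Injective l ↔ Function.Injective (u.lTensor B) := by
  have h1 : l ∘ₗ hf.equiv.toLinearMap = hg.equiv.toLinearMap ∘ₗ u.baseChange B := by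
    apply TensorProduct.AlgebraTensorModule.ext
    intro b m
    simp [h, IsBaseChange.equiv_tmul]
  have h2 : Function.Injective (l ∘ₗ hf.equiv.toLinearMap) ↔ Function.Injective l :=
    hf.equiv.injective_comp l
  have h3 : Function.Injective (hg.equiv.toLinearMap ∘ₗ u.baseChange B) ↔
      Function.Injective (u.baseChange B) := hg.equiv.comp_injective _
  rw [← h2, h1, h3]
  rfl

/-- for a field extension `κ ⊆ K` over `A`, injectivity of `κ ⊗ u` and `K ⊗ u` agree. -/
theorem lTensor_injective_iff_of_field (κ : Type u) [Field κ] [Algebra A κ] [Algebra κ K] [IsScalarTower A κ K]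
    (u : M →ₗ[A] N) :
    Function.Injective (u.lTensor K) ↔ Function.Injective (u.lTensor κ) := by
  have h1 : IsBaseChange K ((TensorProduct.mk κ K (κ ⊗[A] M) 1).restrictScalars A ∘ₗ
      (TensorProduct.mk A κ M 1)) :=
    (TensorProduct.isBaseChange A M κ).comp (TensorProduct.isBaseChange κ (κ ⊗[A] M) K)
  have h2 : IsBaseChange K ((TensorProduct.mk κ K (κ ⊗[A] N) 1).restrictScalars A ∘ₗ
      (TensorProduct.mk A κ N 1)) :=
    (TensorProduct.isBaseChange A N κ).comp (TensorProduct.isBaseChange κ (κ ⊗[A] N) K)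
  rw [← injective_iff_of_isBaseChange K h1 h2 u ((u.baseChange κ).baseChange K) (by intro m; simp)]
  exact Module.FaithfullyFlat.lTensor_injective_iff_injective κ K (u.baseChange κ)

theorem exists_local_retraction [Module.Finite A M] [Module.Finite A N] [Module.Projective A N]
    (p : Ideal A) [p.IsPrime] (u : M →ₗ[A] N)
    (hu : Function.Injective (u.lTensor p.ResidueField)) :
    ∃ (h : N →ₗ[A] M) (s : A), s ∉ p ∧ ∀ m, h (u m) = s • m := by
  let S := p.primeCompl
  let R := Localization.AtPrime p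
  let f := LocalizedModule.mkLinearMap S M
  let g := LocalizedModule.mkLinearMap S N
  let l : LocalizedModule S M →ₗ[R] LocalizedModule S N := LocalizedModule.map S u
  have hfin : Module.Finite R (LocalizedModule S M) := inferInstance
  have hfin' : Module.Finite R (LocalizedModule S N) := inferInstance
  have hproj : Module.Projective R (LocalizedModule S N) := inferInstance
  have hfree : Module.Free R (LocalizedModule S N) := Module.free_of_flat_of_isLocalRing
  have hlm : ∀ m, l (f m) = g (u m) := by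
    intro m
    exact IsLocalizedModule.map_apply S (LocalizedModule.mkLinearMap S M) (LocalizedModule.mkLinearMap S N) u m
  have hfp : Module.FinitePresentation A N := Module.finitePresentation_of_projective A N
  have key : Function.Injective (l.lTensor p.ResidueField) := by
    have h1 : IsBaseChange R f := (isLocalizedModule_iff_isBaseChange S R f).mp inferInstance
    have h2 : IsBaseChange R g := (isLocalizedModule_iff_isBaseChange S R g).mp inferInstance
    have h3 := h1.comp (TensorProduct.isBaseChange R (LocalizedModule S M) p.ResidueField)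
    have h4 := h2.comp (TensorProduct.isBaseChange R (LocalizedModule S N) p.ResidueField)
    have h5 := (injective_iff_of_isBaseChange p.ResidueField h3 h4 u (l.baseChange p.ResidueField)
      (by intro m; simp [hlm])).mpr hu
    exact h5
  obtain ⟨l', hl'⟩ := (IsLocalRing.split_injective_iff_lTensor_residueField_injective l).mpr key
  obtain ⟨h, s, hs⟩ := Module.FinitePresentation.exists_lift_of_isLocalizedModule S f
    ((l'.restrictScalars A) ∘ₗ g)
  -- compare `h ∘ u` and `s • id`
  have h6 : ∀ m : M, f (h (u m) - (s : A) • m) = 0 := by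
    intro m
    have h7 : f (h (u m)) = (s : A) • l' (g (u m)) := congr($hs (u m))
    have h8 : l' (l (f m)) = f m := congr($hl' (f m))
    rw [map_sub, h7, ← hlm, h8, map_smul, sub_self]
  obtain ⟨σ, hσ⟩ := Module.Finite.fg_top (R := A) (M := M)
  have h9 : ∀ m : M, ∃ t : S, t • (h (u m) - (s : A) • m) = 0 := by
    intro m
    obtain ⟨t, ht⟩ := (IsLocalizedModule.eq_zero_iff S f).mp (h6 m)
    exact ⟨t, ht⟩
  choose t ht using h9
  let T : S := ∏ m ∈ σ, t m
  have hT : ∀ m : M, T • (h (u m) - (s : A) • m) = 0 := by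
    intro m
    have hm : m ∈ Submodule.span A (σ : Set M) := by rw [hσ]; trivial
    induction hm using Submodule.span_induction with
    | mem x hx =>
      classical
      simp only [T]
      rw [← Finset.prod_erase_mul _ _ hx, mul_smul, ht, smul_zero]
    | zero => simp
    | add x y _ _ hx hy =>
      have : h (u (x + y)) - (s : A) • (x + y) = (h (u x) - (s : A) • x) + (h (u y) - (s : A) • y) := by
        simp only [map_add, smul_add]
        abel
      rw [this, smul_add, hx, hy, add_zero]
    | smul a x _ hx =>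
      have : h (u (a • x)) - (s : A) • (a • x) = a • (h (u x) - (s : A) • x) := by
        rw [map_smul, map_smul, smul_sub, smul_comm a (s : A) x]
      rw [this, smul_comm, hx, smul_zero]
  refine ⟨(T : A) • h, (T : A) * s, ?_, fun m => ?_⟩
  · exact (T * s).2
  · have h10 := hT m
    rw [smul_sub, sub_eq_zero] at h10
    rw [LinearMap.smul_apply, mul_smul]
    exact h10

/-- the same for an arbitrary field over `A`. -/
theorem exists_retraction [Module.Finite A M] [Module.Finite A N] [Module.Projective A N]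
    (u : M →ₗ[A] N) (hu : Function.Injective (u.lTensor K)) :
    ∃ (h : N →ₗ[A] M) (s : A), algebraMap A K s ≠ 0 ∧ ∀ m, h (u m) = s • m := by
  let p : Ideal A := RingHom.ker (algebraMap A K)
  have hp : p.IsPrime := RingHom.ker_isPrime _
  let φ : p.ResidueField →ₐ[A] K := Ideal.ResidueField.liftₐ p (Algebra.ofId A K) (le_refl _) (by
    intro x hx
    rw [Submonoid.mem_comap]
    exact IsUnit.mk0 _ (fun h0 => hx h0))
  let : Algebra p.ResidueField K := φ.toRingHom.toAlgebra
  have : IsScalarTower A p.ResidueField K := IsScalarTower.of_algebraMap_eq (fun a => (φ.commutes a).symm)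
  obtain ⟨h, s, hs, hh⟩ := exists_local_retraction p u ((lTensor_injective_iff_of_field p.ResidueField u).mp hu)
  exact ⟨h, s, hs, hh⟩

end Algebra


theorem exists_retraction' {A K M N : Type u} [CommRing A] [CommRing K] (hK : IsField K) [Algebra A K]
    [AddCommGroup M] [Module A M] [AddCommGroup N] [Module A N]
    [Module.Finite A M] [Module.Finite A N] [Module.Projective A N]
    (u : M →ₗ[A] N) (hu : Function.Injective (u.lTensor K)) :
    ∃ (h : N →ₗ[A] M) (s : A), IsUnit (algebraMap A K s) ∧ ∀ m, h (u m) = s • m := by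
  let := hK.toField
  obtain ⟨h, s, hs, hh⟩ := exists_retraction (K := K) u hu
  exact ⟨h, s, IsUnit.mk0 _ hs, hh⟩

section Scheme

variable {X Y : Scheme.{u}}

/-- The morphism `u` is split mono on an open neighbourhood of `x`. -/
def SplitAt {F V : X.Modules} (u : F ⟶ V) (x : X) : Prop :=
  ∃ U : X.Opens, x ∈ U ∧
    ∃ r : (Scheme.Modules.pullback U.ι).obj V ⟶ (Scheme.Modules.pullback U.ι).obj F,
      (Scheme.Modules.pullback U.ι).map u ≫ r = 𝟙 _

theorem map_sec (g : Y ⟶ X) {M N : X.Modules} (u : M ⟶ N) {U : X.Opens} {V : Y.Opens}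
    (e : V ≤ g ⁻¹ᵁ U) (s : Γ(M, U)) :
    ((Scheme.Modules.pullback g).map u).app V (VarietyB.PullSec.sec g M e s) =
      VarietyB.PullSec.sec g N e (u.app U s) := by
  have h1 := congr($((Scheme.Modules.pullbackPushforwardAdjunction g).unit.naturality u).app U s)
  have h2 : ((Scheme.Modules.pullbackPushforwardAdjunction g).unit.app N).app U (u.app U s) =
      ((Scheme.Modules.pullback g).map u).app (g ⁻¹ᵁ U)
        (((Scheme.Modules.pullbackPushforwardAdjunction g).unit.app M).app U s) := h1
  rw [VarietyB.PullSec.sec_apply, VarietyB.PullSec.sec_apply, h2]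
  exact congr($(((Scheme.Modules.pullback g).map u).mapPresheaf.naturality (homOfLE e).op) _)

theorem app_top_injective_of_split {F V : X.Modules} (u : F ⟶ V) (r : V ⟶ F) (h : u ≫ r = 𝟙 F) (U : X.Opens) :
    Function.Injective (u.app U) := by
  intro a b hab
  have h1 : ∀ c : Γ(F, U), r.app U (u.app U c) = c := fun c => congr($(h).app U c)
  rw [← h1 a, hab, h1]

/-- Pulling back along a composite. -/
theorem exists_retraction_pullback (g : Y ⟶ X) {F V : X.Modules} (u : F ⟶ V) (r : V ⟶ F) (h : u ≫ r = 𝟙 F) :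
    ∃ r' : (Scheme.Modules.pullback g).obj V ⟶ (Scheme.Modules.pullback g).obj F,
      (Scheme.Modules.pullback g).map u ≫ r' = 𝟙 _ :=
  ⟨(Scheme.Modules.pullback g).map r, by rw [← Functor.map_comp, h, CategoryTheory.Functor.map_id]⟩

/-- transport of a retraction along a natural isomorphism of functors. -/
theorem exists_retraction_of_natIso {C D : Type*} [Category C] [Category D] {P Q : C ⥤ D} (α : P ≅ Q) {F V : C}
    (u : F ⟶ V) (h : ∃ r : P.obj V ⟶ P.obj F, P.map u ≫ r = 𝟙 _) :
    ∃ r : Q.obj V ⟶ Q.obj F, Q.map u ≫ r = 𝟙 _ := by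
  obtain ⟨r, hr⟩ := h
  refine ⟨α.inv.app V ≫ r ≫ α.hom.app F, ?_⟩
  rw [α.inv.naturality_assoc, reassoc_of% hr, Iso.inv_hom_id_app]

theorem injective_of_natIso {P Q : X.Modules ⥤ Y.Modules} (α : P ≅ Q) {F V : X.Modules}
    (u : F ⟶ V) (U : Y.Opens) (h : Function.Injective ((P.map u).app U)) :
    Function.Injective ((Q.map u).app U) := by
  intro a b hab
  have h1 : ∀ c : Γ(Q.obj F, U), (P.map u).app U ((α.inv.app F).app U c) = (α.inv.app V).app U ((Q.map u).app U c) :=
    fun c => (congr($(α.inv.naturality u).app U c)).symm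
  have h2 : (α.inv.app F).app U a = (α.inv.app F).app U b := by
    apply h
    rw [h1, h1, hab]
  have h3 : ∀ c : Γ(Q.obj F, U), (α.hom.app F).app U ((α.inv.app F).app U c) = c :=
    fun c => congr($(α.inv_hom_id_app F).app U c)
  rw [← h3 a, h2, h3]

theorem subsingleton_spec {K : CommRingCat.{u}} (hK : IsField K) : Subsingleton (Spec K) := by
  let := hK.toField
  exact inferInstanceAs (Subsingleton (PrimeSpectrum K))

variable {K : CommRingCat.{u}} (hK : IsField K)

include hK in
/-- Locally split implies injective on fibres. -/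
theorem injective_of_splitAt (g : Spec K ⟶ X) (t : Spec K) {F V : X.Modules} (u : F ⟶ V)
    (h : SplitAt u (g t)) : Function.Injective (((Scheme.Modules.pullback g).map u).app ⊤) := by
  obtain ⟨U, hU, r, hr⟩ := h
  have hrange : Set.range g ⊆ Set.range U.ι := by
    rintro _ ⟨t', rfl⟩
    rw [Scheme.Opens.range_ι]
    have h0 := subsingleton_spec hK
    have : t' = t := Subsingleton.elim _ _
    rw [this]
    exact hU
  let g' : Spec K ⟶ U := IsOpenImmersion.lift U.ι g hrange
  have hg : g' ≫ U.ι = g := IsOpenImmersion.lift_fac _ _ _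
  obtain ⟨r', hr'⟩ := exists_retraction_pullback g' ((Scheme.Modules.pullback U.ι).map u) r hr
  obtain ⟨r'', hr''⟩ := exists_retraction_of_natIso (P := Scheme.Modules.pullback U.ι ⋙ Scheme.Modules.pullback g')
    (Scheme.Modules.pullbackComp g' U.ι ≪≫ Scheme.Modules.pullbackCongr hg) u ⟨r', hr'⟩
  exact app_top_injective_of_split _ r'' hr'' ⊤

/-- A morphism from a quasi-coherent module on an affine scheme is determined by global sections. -/
theorem hom_ext_of_isAffine [IsAffine X] {G N : X.Modules} (hG : Coh.IsQCoh G) {φ ψ : G ⟶ N}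
    (h : ∀ s : Γ(G, ⊤), φ.app ⊤ s = ψ.app ⊤ s) : φ = ψ := by
  have hA : IsAffineOpen (⊤ : X.Opens) := isAffineOpen_top X
  ext V s
  have key : ∀ x : V, ∃ D : X.Opens, ∃ _ : D ≤ V, (x : X) ∈ D ∧ ∀ t : Γ(G, D), φ.app D t = ψ.app D t := by
    intro x
    obtain ⟨f, hf, hxf⟩ := hA.exists_basicOpen_le ⟨x.1, x.2⟩ trivial
    refine ⟨X.basicOpen f, hf, hxf, fun t => ?_⟩
    obtain ⟨n, t', ht'⟩ := (Ega1.QCohLoc.isLocAt_of_isQCoh hG hA f).surj t
    have e1 := Ega1.QCohLoc.res_app φ (X.basicOpen_le f) t'
    have e2 := Ega1.QCohLoc.res_app ψ (X.basicOpen_le f) t'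
    rw [h] at e1
    have e3 := e1.trans e2.symm
    rw [ht', Scheme.Modules.Hom.app_smul, Scheme.Modules.Hom.app_smul] at e3
    have hu : IsUnit (Ega1.QCohLoc.resO (X.basicOpen_le f) f) := RingedSpace.isUnit_res_basicOpen X.toRingedSpace f
    exact (hu.pow n).smul_left_cancel.mp e3
  choose D hD hxD hDe using key
  refine Ega1.QCohLoc.eq_of_locally_eq N D V hD (fun x hx => Opens.mem_iSup.mpr ⟨⟨x, hx⟩, hxD _⟩) _ _ fun x => ?_
  have e1 := Ega1.QCohLoc.res_app φ (hD x) s
  have e2 := Ega1.QCohLoc.res_app ψ (hD x) s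
  exact e1.symm.trans ((hDe x _).trans e2)

/-- A retraction up to the multiplier `s` on the sections over an affine open gives a splitting on
the basic open of `s`. -/
theorem splitAt_of_sections {F V : X.Modules} (u : F ⟶ V) (hF : Coh.IsQCoh F) (hV : Coh.IsQCoh V)
    {U : X.Opens} (hU : IsAffineOpen U) (l : Γ(V, U) →ₗ[Γ(X, U)] Γ(F, U)) (s : Γ(X, U))
    (hl : ∀ m : Γ(F, U), l (u.app U m) = s • m) (x : X) (hx : x ∈ X.basicOpen s) : SplitAt u x := by
  let D := X.basicOpen s
  have hD : IsAffineOpen D := hU.basicOpen s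
  have hDU : D ≤ U := X.basicOpen_le s
  let j0 : Algebra Γ(X, U) Γ(X, D) := (X.presheaf.map (homOfLE hDU).op).hom.toAlgebra
  let j1 := Fdesc.QCohStalk.resModule F hDU
  let j2 := Fdesc.QCohStalk.resModule V hDU
  have j3 : IsScalarTower Γ(X, U) Γ(X, D) Γ(F, D) := ⟨fun a b c => by
      rw [Algebra.smul_def, mul_smul]; rfl⟩
  have j4 : IsScalarTower Γ(X, U) Γ(X, D) Γ(V, D) := ⟨fun a b c => by
      rw [Algebra.smul_def, mul_smul]; rfl⟩
  have j5 : IsLocalizedModule (.powers s) (Fdesc.QCohStalk.resₗ F hDU) :=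
    Fdesc.QCohStalk.isLocalizedModule_res F hU hF s
  have j6 : IsLocalizedModule (.powers s) (Fdesc.QCohStalk.resₗ V hDU) :=
    Fdesc.QCohStalk.isLocalizedModule_res V hU hV s
  have j7 : IsLocalization.Away s Γ(X, D) := hU.isLocalization_basicOpen s
  have j8 : IsLocalization (.powers s) Γ(X, D) := j7
  have hu : IsUnit (Ega1.QCohLoc.resO hDU s) := RingedSpace.isUnit_res_basicOpen X.toRingedSpace s
  let l' : Γ(V, D) →ₗ[Γ(X, D)] Γ(F, D) :=
    IsLocalizedModule.mapExtendScalars (.powers s) (Fdesc.QCohStalk.resₗ V hDU)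
      (Fdesc.QCohStalk.resₗ F hDU) Γ(X, D) l
  have hl' : ∀ n : Γ(V, U), l' (Ega1.QCohLoc.res V hDU n) = Ega1.QCohLoc.res F hDU (l n) := by
    intro n
    exact IsLocalizedModule.map_apply (.powers s) (Fdesc.QCohStalk.resₗ V hDU)
      (Fdesc.QCohStalk.resₗ F hDU) l n
  have h1 : ∀ m : Γ(F, D), l' (u.app D m) = Ega1.QCohLoc.resO hDU s • m := by
    intro m
    obtain ⟨n, m0, hm0⟩ := (Ega1.QCohLoc.isLocAt_of_isQCoh hF hU s).surj m
    apply (hu.pow n).smul_left_cancel.mp
    rw [← map_smul, ← Scheme.Modules.Hom.app_smul]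
    rw [smul_comm, ← hm0, Ega1.QCohLoc.res_app, hl', hl, Ega1.QCohLoc.res_smul]
  obtain ⟨v, hv⟩ := hu.exists_left_inv
  let L : Γ(V, D) →ₗ[Γ(X, D)] Γ(F, D) := v • l'
  have hL : ∀ m : Γ(F, D), L (u.app D m) = m := by
    intro m
    change v • l' (u.app D m) = m
    rw [h1, smul_smul, hv, one_smul]
  obtain ⟨φ, hφ⟩ := CohqB.FinHom.exists_hom_restrict V F hD L
  refine ⟨D, hx, exists_retraction_of_natIso (Scheme.Modules.restrictFunctorIsoPullback D.ι) u ⟨φ, ?_⟩⟩
  have : IsAffine D := hD
  apply hom_ext_of_isAffine (X := D) (Ega1.QCohLoc.isQCoh_restrict F D.ι)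
  intro m
  have e1 : D.ι ''ᵁ ⊤ ≤ D := D.ι_image_le ⊤
  have e2 : D ≤ D.ι ''ᵁ ⊤ := by simp
  obtain ⟨m', rfl⟩ : ∃ m' : Γ(F, D), m = Ega1.QCohLoc.res F e1 m' :=
    ⟨Ega1.QCohLoc.res F e2 m, ((Ega1.QCohLoc.res_res F e2 e1 _).trans (Ega1.QCohLoc.res_rfl F _)).symm⟩
  have e3 := hφ (u.app D m')
  rw [hL] at e3
  refine Eq.trans ?_ e3
  exact congrArg (φ.app ⊤) (Ega1.QCohLoc.res_app u e1 m')

include hK in
/-- Injectivity on one fibre implies locally split. -/
theorem splitAt_of_injective (g : Spec K ⟶ X) (t : Spec K) {F V : X.Modules} (u : F ⟶ V)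
    (hF : Coh.IsQCoh F) (hFt : CohB1.IsFT F) (hV : FlatMod.IsFinLocFree V)
    (h : Function.Injective (((Scheme.Modules.pullback g).map u).app ⊤)) : SplitAt u (g t) := by
  have hVq : Coh.IsQCoh V := PerfA.QCohEpi.isQCoh_of_isFinLocFree hV
  obtain ⟨U, hU, hxU, -⟩ := exists_isAffineOpen_mem_and_subset (x := g t) (U := ⊤) trivial
  have e : (⊤ : (Spec K).Opens) ≤ g ⁻¹ᵁ U := by
    intro t' _
    have h0 := subsingleton_spec hK
    have : t' = t := Subsingleton.elim _ _
    rw [this]
    exact hxU
  let i1 : Algebra Γ(X, U) Γ(Spec K, ⊤) := (g.appLE U ⊤ e).hom.toAlgebra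
  let i2 := VarietyB.PullSec.secModule g F e
  let i3 := VarietyB.PullSec.secModule g V e
  have i4 : IsScalarTower Γ(X, U) Γ(Spec K, ⊤) Γ((Scheme.Modules.pullback g).obj F, ⊤) :=
      ⟨fun a b c => by rw [Algebra.smul_def, mul_smul]; rfl⟩
  have i5 : IsScalarTower Γ(X, U) Γ(Spec K, ⊤) Γ((Scheme.Modules.pullback g).obj V, ⊤) :=
      ⟨fun a b c => by rw [Algebra.smul_def, mul_smul]; rfl⟩
  have b1 : IsBaseChange Γ(Spec K, ⊤) (VarietyB.PullSec.secₗ g F e) :=
    VarietyB.PullSec.isBaseChange_secₗ g F e hF hU (isAffineOpen_top _)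
  have b2 : IsBaseChange Γ(Spec K, ⊤) (VarietyB.PullSec.secₗ g V e) :=
    VarietyB.PullSec.isBaseChange_secₗ g V e hVq hU (isAffineOpen_top _)
  let uU : Γ(F, U) →ₗ[Γ(X, U)] Γ(V, U) :=
    { toFun := u.app U, map_add' := map_add _, map_smul' := fun r s => Scheme.Modules.Hom.app_smul u r s }
  let gu : Γ((Scheme.Modules.pullback g).obj F, ⊤) →ₗ[Γ(Spec K, ⊤)] Γ((Scheme.Modules.pullback g).obj V, ⊤) :=
    { toFun := ((Scheme.Modules.pullback g).map u).app ⊤, map_add' := map_add _,
      map_smul' := fun r s => Scheme.Modules.Hom.app_smul _ r s }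
  have h1 : Function.Injective (uU.lTensor Γ(Spec K, ⊤)) :=
    (injective_iff_of_isBaseChange Γ(Spec K, ⊤) b1 b2 uU gu (fun m => map_sec g u e m)).mp h
  have hK' : IsField Γ(Spec K, ⊤) :=
    (Scheme.ΓSpecIso K).commRingCatIsoToRingEquiv.toMulEquiv.isField hK
  have fin1 : Module.Finite Γ(X, U) Γ(F, U) :=
    CohqB.FiniteType2.finite_sections_of_isFT F hFt hU
  obtain ⟨fp2, fl2⟩ := (Desc.FinLocFreeSections.isFinLocFree_iff_of_cover hVq (fun _ => True) (fun x => by
    obtain ⟨V, hV, hx, -⟩ := exists_isAffineOpen_mem_and_subset (x := x) (U := ⊤) trivial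
    exact ⟨V, trivial, hV, hx⟩)).mp hV U trivial hU
  have proj2 : Module.Projective Γ(X, U) Γ(V, U) := Module.Flat.projective_of_finitePresentation
  obtain ⟨l, s, hs, hl⟩ := exists_retraction' hK' uU h1
  refine splitAt_of_sections u hF hVq hU l s hl (g t) ?_
  have h2 : (Spec K).basicOpen (g.appLE U ⊤ e s) = ⊤ := (Spec K).basicOpen_of_isUnit hs
  rw [Scheme.basicOpen_appLE, top_inf_eq] at h2
  have h3 : t ∈ g ⁻¹ᵁ X.basicOpen s := by rw [h2]; trivial
  exact h3

/-- Being locally split can be checked after any base change, pointwise. -/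
theorem splitAt_pullback_iff (h : Y ⟶ X) (y : Y) {F V : X.Modules} (u : F ⟶ V)
    (hF : Coh.IsQCoh F) (hFt : CohB1.IsFT F) (hV : FlatMod.IsFinLocFree V) :
    SplitAt ((Scheme.Modules.pullback h).map u) y ↔ SplitAt u (h y) := by
  let g := Y.fromSpecResidueField y
  let t : Spec (Y.residueField y) := IsLocalRing.closedPoint _
  have ht : g t = y := Scheme.fromSpecResidueField_apply y t
  have ht' : (g ≫ h) t = h y := by
    rw [Scheme.Hom.comp_apply, ht]
  have hK : IsField (Y.residueField y) := Field.toIsField _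
  let α : Scheme.Modules.pullback h ⋙ Scheme.Modules.pullback g ≅ Scheme.Modules.pullback (g ≫ h) :=
    Scheme.Modules.pullbackComp g h
  constructor
  · intro hs
    rw [← ht] at hs
    have h1 := injective_of_splitAt hK g t _ hs
    have h2 := injective_of_natIso α u ⊤ h1
    have h3 := splitAt_of_injective hK (g ≫ h) t u hF hFt hV h2
    rwa [ht'] at h3
  · intro hs
    rw [← ht'] at hs
    have h1 := injective_of_splitAt hK (g ≫ h) t _ hs
    have h2 := injective_of_natIso α.symm u ⊤ h1
    have h3 := splitAt_of_injective hK g t ((Scheme.Modules.pullback h).map u)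
      (FormalA.PullbackQC.isQCoh_pullback h F hF) (FormalA.PullbackQC.isFT_pullback h F hFt)
      (PerfB.FlatPull.isFinLocFree_pullback h hV) h2
    rwa [ht] at h3

end Scheme

end Groth.Agent.FlatMor.K262.SplitFib
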