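import Groth.Agent.Flat2G.RelAssVal8
import Groth.Agent.Flat2D.RelDimClosure2
import Groth.Agent.Flat2G.AffPrimes
import Groth.Agent.Flat2G.RelAssSch
import Groth.Agent.Flat2B.FlatCrit
import Mathlib.RingTheory.Flat.TorsionFree
import Mathlib.RingTheory.Valuation.ValuationRing

set_option autoImplicit false
universe u

/-!
Relative transcendence degrees over a valuation ring: a fibre-generic point of the closure of `y` has
transcendence degree at most that of `y`.
-/

open CategoryTheory AlgebraicGeometry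

namespace K262.ValDim

open Groth.Agent

/-- An algebra over a valuation ring which is a domain and contains it is flat. -/
theorem flat_of_injective {A B : Type u} [CommRing A] [IsDomain A] [ValuationRing A] [CommRing B] [IsDomain B]
    [Algebra A B] (h : Function.Injective (algebraMap A B)) : Module.Flat A B := by
  rw [Module.Flat.flat_iff_torsion_eq_bot_of_isBezout, eq_bot_iff]
  rintro s ⟨⟨r, hr⟩, hrs⟩
  have hrs' : algebraMap A B r * s = 0 := by
    rw [← Algebra.smul_def]; exact hrs
  rcases mul_eq_zero.mp hrs' with h1 | h1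
  · exact absurd ((injective_iff_map_eq_zero _).mp h r h1) (nonZeroDivisors.ne_zero hr)
  · exact h1

theorem indep {A B : Type u} [CommRing A] [IsDomain A] [ValuationRing A] [CommRing B] [Algebra A B]
    [Algebra.FiniteType A B] (qy qx : Ideal B) [qy.IsPrime] [qx.IsPrime] (hle : qy ≤ qx)
    (hmin : ∀ Q : Ideal B, Q.IsPrime → qy ≤ Q → (qx.under A).map (algebraMap A B) ≤ Q → Q ≤ qx → Q = qx)
    {ι : Type u} (t : ι → B)
    (ht : ∀ r : MvPolynomial ι A, MvPolynomial.aeval t r ∈ qx → ∀ m, MvPolynomial.coeff m r ∈ qx.under A)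
    (r : MvPolynomial ι A) (hr : MvPolynomial.aeval t r ∈ qy) (m : ι →₀ ℕ) :
    MvPolynomial.coeff m r ∈ qy.under A := by
  let p := qy.under A
  let A' := A ⧸ p
  let B' := B ⧸ qy
  have hA' : ValuationRing A' :=
    Function.Surjective.valuationRing (Ideal.Quotient.mk p) Ideal.Quotient.mk_surjective
  have hcomm : ∀ a : A, algebraMap A' B' (Ideal.Quotient.mk p a) = Ideal.Quotient.mk qy (algebraMap A B a) :=
    fun a => rfl
  have hinj : Function.Injective (algebraMap A' B') := by
    rw [injective_iff_map_eq_zero]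
    intro a ha
    obtain ⟨a, rfl⟩ := Ideal.Quotient.mk_surjective a
    rw [hcomm, Ideal.Quotient.eq_zero_iff_mem] at ha
    exact Ideal.Quotient.eq_zero_iff_mem.mpr ha
  have hflat : Module.Flat A' B' := flat_of_injective hinj
  have hft : Algebra.FiniteType A' B' := by
    have h1 : Algebra.FiniteType A B' := Algebra.FiniteType.trans (S := B) inferInstance inferInstance
    exact Algebra.FiniteType.of_restrictScalars_finiteType A A' B'
  let qx' : Ideal B' := qx.map (Ideal.Quotient.mk qy)
  have hqx' : qx'.comap (Ideal.Quotient.mk qy) = qx := by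
    rw [Ideal.comap_map_of_surjective' _ Ideal.Quotient.mk_surjective, Ideal.mk_ker, sup_eq_left]
    exact hle
  have hqx'p : qx'.IsPrime :=
    Ideal.map_isPrime_of_surjective Ideal.Quotient.mk_surjective (by rw [Ideal.mk_ker]; exact hle)
  have hmem : ∀ b : B, Ideal.Quotient.mk qy b ∈ qx' ↔ b ∈ qx := fun b => by
    conv_rhs => rw [← hqx']
    rfl
  have hmin' : ∀ Q : Ideal B', Q.IsPrime → (⊥ : Ideal B') ≤ Q →
      (qx'.under A').map (algebraMap A' B') ≤ Q → Q ≤ qx' → Q = qx' := by
    intro Q hQ _ h1 h2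
    have h3 : Q.comap (Ideal.Quotient.mk qy) = qx := by
      apply hmin _ (Ideal.IsPrime.comap _)
      · intro b hb
        rw [Ideal.mem_comap, Ideal.Quotient.eq_zero_iff_mem.mpr hb]
        exact Q.zero_mem
      · rw [Ideal.map_le_iff_le_comap]
        intro a ha
        rw [Ideal.mem_comap, Ideal.mem_comap, ← hcomm]
        apply h1
        apply Ideal.mem_map_of_mem
        change algebraMap A' B' (Ideal.Quotient.mk p a) ∈ qx'
        rw [hcomm, hmem]
        exact ha
      · intro b hb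
        rw [← hmem]
        exact h2 hb
    rw [← Ideal.map_comap_of_surjective _ Ideal.Quotient.mk_surjective Q, h3]
  have h0 : (⊥ : Ideal B').under A' = ⊥ := (RingHom.injective_iff_ker_eq_bot _).mp hinj
  have hRA : Flat2G.GenericAss.RA (((⊥ : Ideal B').under A').map (algebraMap A' B')) (⊥ : Ideal B') B' := by
    rw [h0, Ideal.map_bot]
    refine ⟨1, ?_, ?_⟩
    · intro b hb
      have hb0 : b = 0 := hb
      refine ⟨1, 1, one_ne_zero, ?_⟩
      rw [hb0, pow_one, mul_zero, zero_smul]
      exact Submodule.zero_mem _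
    · intro s hs hmem'
      rw [Submodule.bot_smul, Submodule.mem_bot, smul_eq_mul, mul_one] at hmem'
      exact hs hmem'
  obtain ⟨-, key⟩ := Flat2G.RelAssVal.main_alg (A := A') (B := B') (M := B') (⊥ : Ideal B') qx' bot_le hmin'
    (Flat2B.FlatCrit.flatAt_of_flat qx' B') hRA
  have hev : ∀ r : MvPolynomial ι A, Ideal.Quotient.mk qy (MvPolynomial.aeval t r) =
      MvPolynomial.aeval (R := A') (S₁ := B') (fun i => Ideal.Quotient.mk qy (t i))
        (MvPolynomial.map (Ideal.Quotient.mk p) r) := by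
    intro r
    rw [MvPolynomial.map_aeval]
    simp only [MvPolynomial.aeval_def, MvPolynomial.eval₂_map]
    rfl
  have h2 := key (fun i => Ideal.Quotient.mk qy (t i)) ?_ (MvPolynomial.map (Ideal.Quotient.mk p) r) ?_ m
  · rw [MvPolynomial.coeff_map, h0, Ideal.mem_bot, Ideal.Quotient.eq_zero_iff_mem] at h2
    exact h2
  · intro r' hr' m'
    obtain ⟨r₀, rfl⟩ := MvPolynomial.map_surjective (Ideal.Quotient.mk p) Ideal.Quotient.mk_surjective r'
    rw [← hev, hmem] at hr'
    rw [MvPolynomial.coeff_map]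
    change algebraMap A' B' (Ideal.Quotient.mk p _) ∈ qx'
    rw [hcomm, hmem]
    exact ht r₀ hr' m'
  · rw [← hev, Ideal.Quotient.eq_zero_iff_mem.mpr hr]
    exact Ideal.zero_mem _

end K262.ValDim

namespace K262.ValDim

open Groth.Agent Groth.Agent.CycB.RelDim

/-- Over a valuation ring the relative transcendence degree of a point which is generic in the fibre of the
closure of `y` is at most that of `y`. -/
theorem rtd_le {R : Type u} [CommRing R] [IsDomain R] [ValuationRing R] {X : Scheme.{u}}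
    (φ : X ⟶ Spec (CommRingCat.of R)) [LocallyOfFiniteType φ] (y x : X) (hyx : y ⤳ x)
    (hx : ∀ z : X, y ⤳ z → z ⤳ x → φ z = φ x → z = x) : rtd φ x ≤ rtd φ y := by
  let W : (Spec (CommRingCat.of R)).Opens := ⊤
  have hW : IsAffineOpen W := isAffineOpen_top _
  obtain ⟨U, hU, hxU, -⟩ := exists_isAffineOpen_mem_and_subset (X := X) (x := x) (U := ⊤) trivial
  have e : U ≤ φ ⁻¹ᵁ W := le_top
  have hyU : y ∈ U := hyx.mem_open U.isOpen hxU
  let er : R ≃+* Γ(Spec (CommRingCat.of R), W) :=
    (Scheme.ΓSpecIso (CommRingCat.of R)).commRingCatIsoToRingEquiv.symm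
  have hdom : IsDomain Γ(Spec (CommRingCat.of R), W) :=
    MulEquiv.isDomain R er.symm.toMulEquiv
  have hval : ValuationRing Γ(Spec (CommRingCat.of R), W) :=
    Function.Surjective.valuationRing (er : R →+* _) er.surjective
  have hft := φ.finiteType_appLE hW hU e
  algebraize [(φ.appLE W U e).hom]
  have h2 : ∀ {ι : Type u} (t : ι → Γ(X, U)),
        (∀ r : MvPolynomial ι Γ(Spec (CommRingCat.of R), W), MvPolynomial.aeval t r ∈ (hU.primeIdealOf ⟨x, hxU⟩).asIdeal →
          ∀ m, MvPolynomial.coeff m r ∈ (hU.primeIdealOf ⟨x, hxU⟩).asIdeal.under Γ(Spec (CommRingCat.of R), W)) →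
        ∀ r : MvPolynomial ι Γ(Spec (CommRingCat.of R), W), MvPolynomial.aeval t r ∈ (hU.primeIdealOf ⟨y, hyU⟩).asIdeal →
          ∀ m, MvPolynomial.coeff m r ∈ (hU.primeIdealOf ⟨y, hyU⟩).asIdeal.under Γ(Spec (CommRingCat.of R), W) := by
    intro ι t ht r hr m
    refine indep (A := Γ(Spec (CommRingCat.of R), W)) (B := Γ(X, U)) (hU.primeIdealOf ⟨y, hyU⟩).asIdeal
      (hU.primeIdealOf ⟨x, hxU⟩).asIdeal ?_ ?_ t ht r hr m
    · rw [Flat2G.AffPrimes.primeIdealOf_le_iff hU]
      exact hyx
    · intro Q hQ hyQ hsQ hQx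
      let z : X := hU.fromSpec ⟨Q, hQ⟩
      have hzU : z ∈ U := Flat2G.AffPrimes.fromSpec_mem hU _
      have hzx' : (hU.primeIdealOf ⟨z, hzU⟩).asIdeal = Q := by
        rw [Flat2G.AffPrimes.primeIdealOf_fromSpec hU ⟨Q, hQ⟩]
      have hzx : z ⤳ x := by
        rw [← Flat2G.AffPrimes.primeIdealOf_le_iff hU z x hzU hxU, hzx']
        exact hQx
      have hyz : y ⤳ z := by
        rw [← Flat2G.AffPrimes.primeIdealOf_le_iff hU y z hyU hzU, hzx']
        exact hyQ
      have hunder : Q.comap (φ.appLE W U e).hom = (hU.primeIdealOf ⟨x, hxU⟩).asIdeal.comap (φ.appLE W U e).hom :=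
        le_antisymm (Ideal.comap_mono hQx) (Ideal.map_le_iff_le_comap.mp hsQ)
      have hfz : φ z = φ x := by
        apply Flat2G.AffPrimes.primeIdealOf_injective hW (φ z) (φ x) (e hzU) (e hxU)
        rw [← Flat2G.RelAssSch.primeIdealOf_under φ hU hW e z hzU,
          ← Flat2G.RelAssSch.primeIdealOf_under φ hU hW e x hxU, hzx']
        exact hunder
      have heq' : z = x := hx z hyz hzx hfz
      have : ∀ (w : X) (hw : w ∈ U), w = x → (hU.primeIdealOf ⟨w, hw⟩).asIdeal = (hU.primeIdealOf ⟨x, hxU⟩).asIdeal := by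
        rintro w hw rfl
        rfl
      rw [← hzx']
      exact this z hzU heq'
  have hux := Flat2G.RelAssSch.primeIdealOf_under φ hU hW e x hxU
  have huy := Flat2G.RelAssSch.primeIdealOf_under φ hU hW e y hyU
  have h3 := Flat2G.RelAssVal.trd_le_of_algIndep (A := Γ(Spec (CommRingCat.of R), W)) (B := Γ(X, U))
    (hU.primeIdealOf ⟨y, hyU⟩).asIdeal (hU.primeIdealOf ⟨x, hxU⟩).asIdeal
    (hW.primeIdealOf ⟨φ y, e hyU⟩).asIdeal (hW.primeIdealOf ⟨φ x, e hxU⟩).asIdeal huy.symm hux.symm h2
  rw [CycB.RelDim.rtd_eq_trd_quotientMap φ hW hU e x hxU (e hxU) _ rfl hux.symm.le,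
    CycB.RelDim.rtd_eq_trd_quotientMap φ hW hU e y hyU (e hyU) _ rfl huy.symm.le]
  exact h3

end K262.ValDim
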